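import Cfsg.Agent.Lib.Classical.PSUSpectrum.Models
import Cfsg.Agent.Lib.KnownC.PSLOrders

set_option autoImplicit false
set_option linter.unusedSectionVars false

/-! An element of `PSU_n(q)` of order prime to `r ∣ q + 1` either commutes with an element of order `r`,
or its order divides `p ^ e * T`, where `T` is the order of the torus image. -/

namespace CfsgLib.Classical.PSUSpectrum

open Module Polynomial CfsgLib.Classical

universe u₁ u₂

variable {F : Type u₁} [Field F] [Fintype F] {σ : F →+* F} {V : Type u₂} [AddCommGroup V] [Module F V]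
  [FiniteDimensional F V] {B : V →ₛₗ[σ] V →ₗ[F] F}

/-- `Y` is adjoint to `X`. -/
def IsAdj (B : V →ₛₗ[σ] V →ₗ[F] F) (X Y : Module.End F V) : Prop := ∀ x y, B (X x) y = B x (Y y)

theorem IsAdj.symm {X Y : Module.End F V} (hB : IsHermitian B) (h : IsAdj B X Y) : IsAdj B Y X :=
  fun x y => by rw [← hB.symm y (Y x), ← h, hB.symm]

theorem IsAdj.unique {X Y Y' : Module.End F V} (hN : B.SeparatingRight) (h : IsAdj B X Y) (h' : IsAdj B X Y') :
    Y = Y' := LinearMap.ext fun y => sub_eq_zero.1 (hN _ fun x => by rw [map_sub, ← h, ← h', sub_self])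

theorem IsAdj.mul {X Y X' Y' : Module.End F V} (h : IsAdj B X Y) (h' : IsAdj B X' Y') :
    IsAdj B (X * X') (Y' * Y) := fun x y => by
  rw [Module.End.mul_apply, Module.End.mul_apply, h, h']

theorem IsAdj.add {X Y X' Y' : Module.End F V} (h : IsAdj B X Y) (h' : IsAdj B X' Y') :
    IsAdj B (X + X') (Y + Y') := fun x y => by
  simp only [LinearMap.add_apply, map_add, h x y, h' x y]

theorem IsAdj.smul {X Y : Module.End F V} (c : F) (h : IsAdj B X Y) : IsAdj B (c • X) (σ c • Y) := fun x y => by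
  simp only [LinearMap.smul_apply, map_smulₛₗ, map_smul, h x y, RingHom.id_apply]

theorem isAdj_one : IsAdj B 1 1 := fun _ _ => rfl

theorem isAdj_zero : IsAdj B 0 0 := fun x y => by simp

theorem IsAdj.pow {X Y : Module.End F V} (h : IsAdj B X Y) (i : ℕ) : IsAdj B (X ^ i) (Y ^ i) := by
  induction i with
  | zero => simpa using isAdj_one
  | succ i ih => rw [pow_succ, pow_succ']; exact ih.mul h

theorem isAdj_aeval {X Y : Module.End F V} (h : IsAdj B X Y) (P : F[X]) :
    IsAdj B (aeval X P) (aeval Y (P.map σ)) := by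
  induction P using Polynomial.induction_on' with
  | add P Q hP hQ => rw [map_add, Polynomial.map_add, map_add]; exact hP.add hQ
  | monomial i c =>
    rw [Polynomial.map_monomial, aeval_monomial, aeval_monomial, ← Algebra.smul_def, ← Algebra.smul_def]
    exact (h.pow i).smul c

theorem isAdj_inv (g : isomGroup B) : IsAdj B (toEndU g) (toEndU g⁻¹) := fun x y => by
  have h : g.1 ((g⁻¹ : isomGroup B).1 y) = y := g.1.apply_symm_apply y
  conv_lhs => rw [← h]
  exact g.2 x _

theorem exists_isom (hN : B.SeparatingRight) (z : Module.End F V) (h : ∀ x y, B (z x) (z y) = B x y) :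
    ∃ g : isomGroup B, toEndU g = z := by
  have hz : Function.Injective z := fun a b e => sub_eq_zero.1 (hN _ fun x => by
    rw [← h, map_sub z, e, sub_self, map_zero])
  exact ⟨⟨LinearEquiv.ofInjectiveEndo z hz, fun x y => h x y⟩, LinearMap.ext fun x => rfl⟩

theorem exists_split {q n r : ℕ} (hσ : ∀ x, σ x = x ^ q) (hN : B.SeparatingRight) (hV : finrank F V = n)
    (hr : r.Prime) (hrn : ¬ r ∣ n) (hrq : r ∣ q + 1) {ε : F} (hε : orderOf ε = r) (g : isomGroup B)
    {e : Module.End F V} (hadj : IsAdj B e e) (he : e * e = e) (he0 : e ≠ 0) (he1 : e ≠ 1)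
    (hcomm : Commute (toEndU g) e) :
    ∃ h : isomGroup B, LinearMap.det (toEndU h) = 1 ∧ Commute h g ∧ toEndU h ^ r = 1 ∧
      ∀ t : F, toEndU h ≠ t • 1 := by
  have hεr : ε ^ r = 1 := by rw [← hε, pow_orderOf_eq_one]
  have hnorm : ∀ x : F, x ^ r = 1 → σ x * x = 1 := fun x hx => by
    obtain ⟨c, hc⟩ := hrq
    rw [hσ, ← pow_succ, hc, pow_mul, hx, one_pow]
  let z : F →* Module.End F V :=
    { toFun := fun x => 1 + (x - 1) • e
      map_one' := by simp
      map_mul' := fun x y => by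
        rw [mul_add, add_mul, add_mul, one_mul, one_mul, mul_one, smul_mul_smul_comm, he,
          show x * y - 1 = (x - 1) + (y - 1) + (x - 1) * (y - 1) by ring, add_smul, add_smul]
        abel }
  have hz : ∀ x, z x = 1 + (x - 1) • e := fun _ => rfl
  have hzr : z ε ^ r = 1 := by rw [← map_pow, hεr, map_one]
  obtain ⟨k, hk⟩ := CfsgLib.KnownC.PSLOrders.exists_scale_exponent hr hrn
  set c := LinearMap.det (z ε) ^ k with hc
  have hdr : LinearMap.det (z ε) ^ r = 1 := by rw [← map_pow, hzr, map_one]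
  have hcr : c ^ r = 1 := by rw [hc, pow_right_comm, hdr, one_pow]
  have hcn := hnorm c hcr
  have hc0 : c ≠ 0 := right_ne_zero_of_mul_eq_one hcn
  have hself : IsAdj B (z ε) (1 + (σ ε - 1) • e) := by
    have h := (isAdj_one (B := B)).add (hadj.smul (ε - 1))
    rwa [map_sub, map_one] at h
  have hzz : (1 + (σ ε - 1) • e) * z ε = 1 := by
    rw [← hz, ← map_mul, hnorm ε hεr, map_one]
  obtain ⟨h, hh⟩ := exists_isom hN (c • z ε) fun x y => by
    simp only [LinearMap.smul_apply, map_smulₛₗ, RingHom.id_apply, smul_eq_mul]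
    rw [hself x (z ε y), ← Module.End.mul_apply, hzz, Module.End.one_apply, ← mul_assoc, mul_comm c, hcn, one_mul]
  refine ⟨h, ?_, ?_, ?_, ?_⟩
  · obtain ⟨m, hm⟩ := hk
    rw [hh, LinearMap.det_smul, hV, hc, ← pow_mul, ← pow_succ, hm, pow_mul, hdr, one_pow]
  · refine toEndU_injective ?_
    rw [map_mul, map_mul, hh, hz]
    exact (((Commute.one_right _).add_right (hcomm.smul_right (ε - 1))).smul_right c).eq.symm
  · rw [hh, _root_.smul_pow, hzr, hcr, one_smul]
  · intro t ht
    have hε1 : ε - 1 ≠ 0 := sub_ne_zero.2 fun h1 => hr.one_lt.ne' (by rw [← hε, h1, orderOf_one])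
    have h1 : e = ((c⁻¹ * t - 1) / (ε - 1)) • (1 : Module.End F V) := by
      rw [div_eq_inv_mul, mul_smul, sub_smul, one_smul, mul_smul, ← ht, hh, inv_smul_smul₀ hc0, hz,
        add_sub_cancel_left, inv_smul_smul₀ hε1]
    set l := (c⁻¹ * t - 1) / (ε - 1)
    have h2 : (l * l - l) • (1 : Module.End F V) = 0 := by
      rw [h1, smul_mul_smul_comm, mul_one] at he
      rw [sub_smul, he, sub_self]
    rcases smul_eq_zero.1 h2 with h3 | h3
    · rcases mul_eq_zero.1 (show l * (l - 1) = 0 by rw [mul_sub, mul_one, h3]) with h4 | h4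
      · exact he0 (by rw [h1, h4, zero_smul])
      · exact he1 (by rw [h1, sub_eq_zero.1 h4, one_smul])
    · exact he0 (by rw [h1, h3, smul_zero])

theorem det_of_aeval_pow {W : Type*} [AddCommGroup W] [Module F W] [FiniteDimensional F W] (A : Module.End F W)
    {f : F[X]} (hf : Irreducible f) (hfm : f.Monic) {k : ℕ} (h : aeval A f ^ k = 0) :
    ∃ j, j * f.natDegree = finrank F W ∧ LinearMap.det A = ((-1) ^ f.natDegree * f.coeff 0) ^ j := by
  classical
  let b := Module.finBasis F W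
  let φ := LinearMap.toMatrixAlgEquiv b
  set M := φ A with hM
  have hM' : ∀ P : F[X], aeval M P = φ (aeval A P) := fun P => Polynomial.aeval_algHom_apply φ A P
  have hfin : FiniteMultiplicity f M.charpoly :=
    Polynomial.finiteMultiplicity_of_degree_pos_of_monic hf.degree_pos hfm M.charpoly_monic.ne_zero
  obtain ⟨v, hv, hfv⟩ := hfin.exists_eq_pow_mul_and_not_dvd
  set j := multiplicity f M.charpoly
  have hvu : IsUnit v := by
    by_contra hvu
    obtain ⟨π, hπ, hπv⟩ := WfDvdMonoid.exists_irreducible_factor hvu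
      (fun h0 => M.charpoly_monic.ne_zero (by rw [hv, h0, mul_zero]))
    have hdet := CfsgLib.KnownC.PSLOrders.det_aeval_eq_zero hπ (hv ▸ hπv.mul_left _)
    have hnd : ¬ π ∣ f := fun hd => hfv (((hπ.associated_of_dvd hf hd).symm.dvd).trans hπv)
    obtain ⟨a, c, hac⟩ := (hπ.coprime_iff_not_dvd.2 hnd).pow_right (n := k)
    have h1 := congrArg (aeval M) hac
    rw [map_add, map_mul, map_mul, map_one, map_pow, hM' f, ← map_pow φ, h, map_zero, mul_zero, add_zero] at h1
    have h2 := congrArg Matrix.det h1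
    rw [Matrix.det_mul, hdet, mul_zero, Matrix.det_one] at h2
    exact zero_ne_one h2
  have hvm : v.Monic := (hfm.pow j).of_mul_monic_left (hv ▸ M.charpoly_monic)
  rw [hvm.eq_one_of_isUnit hvu, mul_one] at hv
  have hdeg : j * f.natDegree = finrank F W := by
    have := congrArg natDegree hv
    rw [Matrix.charpoly_natDegree_eq_dim, Fintype.card_fin, natDegree_pow] at this
    exact this.symm
  refine ⟨j, hdeg, ?_⟩
  rw [← LinearMap.det_toMatrix b A, show LinearMap.toMatrix b b A = M from rfl,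
    Matrix.det_eq_sign_charpoly_coeff, hv, Fintype.card_fin, ← hdeg, mul_comm j, pow_mul,
    coeff_zero_eq_eval_zero, eval_pow, ← coeff_zero_eq_eval_zero, ← mul_pow]

theorem aeval_intertwine {W : Type*} [AddCommGroup W] [Module F W] (ι : W →ₗ[F] V) (A' : Module.End F W)
    (A : Module.End F V) (h : ∀ x, ι (A' x) = A (ι x)) (P : F[X]) : ∀ x, ι (aeval A' P x) = aeval A P (ι x) := by
  induction P using Polynomial.induction_on' with
  | add P Q hP hQ => intro x; simp only [map_add, LinearMap.add_apply, hP x, hQ x]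
  | monomial i c =>
    intro x
    have hi : ∀ x, ι ((A' ^ i) x) = (A ^ i) (ι x) := by
      induction i with
      | zero => intro x; rfl
      | succ i ih => intro x; rw [pow_succ, pow_succ, Module.End.mul_apply, Module.End.mul_apply, ih, h]
    rw [aeval_monomial, aeval_monomial, ← Algebra.smul_def, ← Algebra.smul_def, LinearMap.smul_apply,
      LinearMap.smul_apply, map_smul, hi]

theorem det_eq_mul_restrict {W W' : Submodule F V} (hc : IsCompl W W') (A : Module.End F V)
    (hA : ∀ x ∈ W, A x ∈ W) (hA' : ∀ x ∈ W', A x ∈ W') :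
    LinearMap.det A = LinearMap.det (A.restrict hA) * LinearMap.det (A.restrict hA') := by
  let e := Submodule.prodEquivOfIsCompl W W' hc
  have h : A = (e : (W × W') →ₗ[F] V) ∘ₗ ((A.restrict hA).prodMap (A.restrict hA')) ∘ₗ
      (e.symm : V →ₗ[F] W × W') := by
    refine LinearMap.ext fun x => ?_
    obtain ⟨y, rfl⟩ := e.surjective x
    simp only [LinearMap.comp_apply, LinearEquiv.coe_coe, e.symm_apply_apply]
    simp [e, Submodule.coe_prodEquivOfIsCompl', map_add]
  conv_lhs => rw [h, LinearMap.det_conj, LinearMap.det_prodMap]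

theorem cast_eq_of_pow_eq {K : Type*} [Field K] {α : K} (h0 : α ≠ 0) {a b : ℕ} (h : α ^ a = α ^ b) :
    (a : ZMod (orderOf α)) = b := by
  rw [ZMod.natCast_eq_natCast_iff, show orderOf α = orderOf (Units.mk0 α h0) by rw [← orderOf_units, Units.val_mk0],
    ← pow_eq_pow_iff_modEq]
  exact Units.ext (by simpa using h)

section Roots

variable {q : ℕ} (hF : Fintype.card F = q ^ 2) {f : F[X]}
include hF

theorem root_facts [Fact (Irreducible f)] (hfm : f.Monic) (hf0 : f.coeff 0 ≠ 0) :
    AdjoinRoot.root f ≠ 0 ∧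
    (-(q : ZMod (orderOf (AdjoinRoot.root f)))) ^ (2 * f.natDegree) = 1 ∧
    algebraMap F (AdjoinRoot f) ((-1) ^ f.natDegree * f.coeff 0) =
      AdjoinRoot.root f ^ (∑ i ∈ Finset.range f.natDegree, (q ^ 2) ^ i) := by
  have hf : Irreducible f := Fact.out
  let pb := AdjoinRoot.powerBasis hf.ne_zero
  haveI : FiniteDimensional F (AdjoinRoot f) := pb.finite
  haveI : Finite (AdjoinRoot f) := Module.finite_of_finite F
  letI : Fintype (AdjoinRoot f) := Fintype.ofFinite _
  set α := AdjoinRoot.root f with hα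
  have hKd : finrank F (AdjoinRoot f) = f.natDegree := by rw [PowerBasis.finrank pb, AdjoinRoot.powerBasis_dim]
  have hn : Algebra.norm F α = (-1) ^ f.natDegree * f.coeff 0 := by
    have h2 := Algebra.PowerBasis.norm_gen_eq_coeff_zero_minpoly pb
    rw [AdjoinRoot.powerBasis_gen, AdjoinRoot.powerBasis_dim, AdjoinRoot.minpoly_root hf.ne_zero,
      hfm.leadingCoeff] at h2
    simpa using h2
  have hα0 : α ≠ 0 := Algebra.norm_ne_zero_iff.1 (by rw [hn]; exact mul_ne_zero (pow_ne_zero _ (by simp)) hf0)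
  refine ⟨hα0, ?_, ?_⟩
  · have h := cast_eq_of_pow_eq hα0 (a := (q ^ 2) ^ f.natDegree) (b := 1) (by
      rw [← hF, ← hKd, ← Module.card_eq_pow_finrank, FiniteField.pow_card, pow_one])
    push_cast at h
    rw [pow_mul, neg_sq, h]
  · rw [← hn, FiniteField.algebraMap_norm_eq_pow_sum, hKd, Nat.card_eq_fintype_card, hF]

theorem exists_scalar_factor [Fact (Irreducible f)] {n : ℕ} (hn : 2 ≤ n) (hσ : ∀ x, σ x = x ^ q)
    (h : orderOf (AdjoinRoot.root f) ∣ torusM q n) : ∃ γ : F, σ γ * γ = 1 ∧ f ∣ X ^ torusT q n - C γ := by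
  set α := AdjoinRoot.root f with hα
  have h1 : (α ^ torusT q n) ^ (q + 1) = 1 := by
    rw [← pow_mul]
    exact orderOf_dvd_iff_pow_eq_one.1 (h.trans (torusM_dvd_mul q n))
  obtain ⟨γ, hγ⟩ : ∃ γ, algebraMap F (AdjoinRoot f) γ = α ^ torusT q n := by
    refine CfsgLib.KnownC.PSLOrders.mem_range_algebraMap_of_pow_card ?_
    have h2 := two_le_of_card_sq hF
    have h3 : Fintype.card F = (q + 1) * (q - 1) + 1 := by
      obtain ⟨q', rfl⟩ : ∃ q', q = q' + 1 := ⟨q - 1, by omega⟩
      rw [hF, Nat.add_sub_cancel]; ring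
    rw [h3, pow_succ, pow_mul, h1, one_pow, one_mul]
  refine ⟨γ, ?_, ?_⟩
  · apply (algebraMap F (AdjoinRoot f)).injective
    rw [hσ, ← pow_succ, map_pow, hγ, h1, map_one]
  · rw [← AdjoinRoot.mk_eq_zero, map_sub, map_pow, AdjoinRoot.mk_X, AdjoinRoot.mk_C, sub_eq_zero, ← hα, ← hγ,
      AdjoinRoot.algebraMap_eq]

theorem root_eq_pow [Fact (Irreducible f)] {y : AdjoinRoot f} (hy : aeval y f = 0) :
    ∃ i : ℕ, y = AdjoinRoot.root f ^ (q ^ 2) ^ i := by
  have hf : Irreducible f := Fact.out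
  haveI : FiniteDimensional F (AdjoinRoot f) := (AdjoinRoot.powerBasis hf.ne_zero).finite
  haveI : Finite (AdjoinRoot f) := Module.finite_of_finite F
  let ψ : AdjoinRoot f →ₐ[F] AdjoinRoot f := AdjoinRoot.liftAlgHom f (Algebra.ofId F _) y hy
  obtain ⟨i, hi⟩ := (FiniteField.bijective_frobeniusAlgHom_pow F (AdjoinRoot f)).2 ψ
  refine ⟨i.1, ?_⟩
  have h := DFunLike.congr_fun hi (AdjoinRoot.root f)
  simp only [AlgHom.coe_pow, FiniteField.coe_frobeniusAlgHom, pow_iterate, hF] at h
  rw [h]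
  exact (AdjoinRoot.liftAlgHom_root _ _ _ _).symm

end Roots

theorem pow_eq_smul_of_factor {q n p : ℕ} [Fact p.Prime] [CharP F p] {f : F[X]} {γ : F} {k : ℕ}
    (hk : k ≤ p ^ Nat.clog p n) (hγ : f ∣ X ^ torusT q n - C γ) (A X' : Module.End F V)
    (h : aeval A f ^ k * X' = 0) :
    A ^ (torusT q n * p ^ Nat.clog p n) * X' = γ ^ p ^ Nat.clog p n • X' := by
  obtain ⟨w, hw⟩ : f ^ k ∣ X ^ (torusT q n * p ^ Nat.clog p n) - C (γ ^ p ^ Nat.clog p n) := by
    rw [pow_mul, C_pow, ← sub_pow_char_pow]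
    exact (pow_dvd_pow f hk).trans (pow_dvd_pow_of_dvd hγ _)
  have h2 := congrArg (fun P => aeval A P * X') (hw.trans (mul_comm _ _))
  simp only [map_mul, map_pow, map_sub, aeval_X, aeval_C, mul_assoc, h, mul_zero, sub_mul,
    Algebra.algebraMap_eq_smul_one, _root_.smul_pow, one_pow, smul_mul_assoc, one_mul] at h2
  exact sub_eq_zero.1 h2

theorem isometry_dichotomy {q n p r : ℕ} [Fact p.Prime] [CharP F p] (hF : Fintype.card F = q ^ 2) (hn : 2 ≤ n)
    (hσ : ∀ x, σ x = x ^ q) (hB : IsHermitian B) (hN : B.SeparatingRight) (hV : finrank F V = n)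
    (hr : r.Prime) (hrn : ¬ r ∣ n) (hrq : r ∣ q + 1) {ε : F} (hε : orderOf ε = r) (g : isomGroup B)
    (hdet : LinearMap.det (toEndU g) = 1) :
    (∃ h : isomGroup B, LinearMap.det (toEndU h) = 1 ∧ Commute h g ∧ toEndU h ^ r = 1 ∧
      ∀ t : F, toEndU h ≠ t • 1) ∨
    ∃ t : F, toEndU g ^ (torusT q n * p ^ Nat.clog p n) = t • 1 := by
  classical
  haveI : Nontrivial V := Module.nontrivial_of_finrank_pos (R := F) (by omega)
  haveI : Finite V := Module.finite_of_finite F
  haveI : Finite (isomGroup B) := Finite.of_injective (fun g => (g.1 : V → V))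
    fun a b e => Subtype.ext (LinearEquiv.ext (congrFun e))
  set A := toEndU g with hA
  set Ai := toEndU g⁻¹ with hAi
  obtain ⟨N, hN'⟩ : ∃ N, orderOf g = N + 1 := ⟨orderOf g - 1, by have := orderOf_pos g; omega⟩
  have hgN : A ^ (N + 1) = 1 := by rw [hA, ← map_pow, ← hN', pow_orderOf_eq_one, map_one]
  have hAiN : Ai = A ^ N := by
    rw [hAi, hA, ← map_pow]
    congr 1
    exact inv_eq_of_mul_eq_one_right (by rw [← pow_succ', ← hN', pow_orderOf_eq_one])
  have hAAi : A * Ai = 1 := by rw [hA, hAi, ← map_mul, mul_inv_cancel, map_one]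
  have hadj : IsAdj B A Ai := isAdj_inv g
  have hcomp : ∀ P : F[X], aeval Ai P = aeval A (P.comp (X ^ N)) := fun P => by
    rw [aeval_comp, map_pow, aeval_X, hAiN]
  set μ := minpoly F A with hμ
  have hint : IsIntegral F A := Algebra.IsIntegral.isIntegral A
  have hμu : ¬ IsUnit μ := minpoly.not_isUnit F A
  obtain ⟨f, hfm, hf, hfd⟩ := Polynomial.exists_monic_irreducible_factor μ hμu
  haveI := Fact.mk hf
  obtain ⟨v, hv, hfv⟩ := (Polynomial.finiteMultiplicity_of_degree_pos_of_monic hf.degree_pos hfm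
    (minpoly.ne_zero hint)).exists_eq_pow_mul_and_not_dvd
  set k := multiplicity f μ
  rw [← hμ] at hv
  have hkn : k ≤ p ^ Nat.clog p n := by
    refine le_trans ?_ (Nat.le_pow_clog (Fact.out : p.Prime).one_lt n)
    have h1 := natDegree_le_of_dvd (LinearMap.minpoly_dvd_charpoly A) (A.charpoly_monic.ne_zero)
    rw [LinearMap.charpoly_natDegree, hV, ← hμ, hv,
      natDegree_mul (pow_ne_zero _ hf.ne_zero) (fun h0 => minpoly.ne_zero hint (by rw [← hμ, hv, h0, mul_zero])),
      natDegree_pow] at h1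
    have h2 := Nat.le_mul_of_pos_right k hf.natDegree_pos
    omega
  have hA0 : ∀ P : F[X], aeval A P = 0 ↔ μ ∣ P := fun P => by rw [hμ, ← minpoly.dvd_iff]
  have hk0 : k ≠ 0 := fun hk => by
    rw [hk, pow_zero, one_mul] at hv
    exact hfv (hv ▸ hfd)
  have hf0 : f.coeff 0 ≠ 0 := by
    intro h0
    have hX : X ∣ f := X_dvd_iff.2 h0
    have h1 : f ∣ X ^ (N + 1) - 1 := hfd.trans ((hA0 _).1 (by rw [map_sub, map_pow, aeval_X, hgN, map_one, sub_self]))
    have h2 := X_dvd_iff.1 (hX.trans h1)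
    rw [coeff_sub, coeff_X_pow, coeff_one_zero, if_neg (by omega), zero_sub, neg_eq_zero] at h2
    exact one_ne_zero h2
  obtain ⟨hα0, hu2d, hnorm⟩ := root_facts hF hfm hf0
  set α := AdjoinRoot.root f with hα
  set o := orderOf α with ho
  set u : ZMod o := -(q : ZMod o) with hu
  set d := f.natDegree with hd
  have hadjP : ∀ P : F[X], IsAdj B (aeval A P) (aeval A ((P.map σ).comp (X ^ N))) := fun P => by
    rw [← hcomp]; exact isAdj_aeval hadj P
  have hscalar : ∀ j : ℕ, ((-1) ^ d * f.coeff 0) ^ j = 1 →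
      (j : ZMod o) * ∑ i ∈ Finset.range d, (u ^ 2) ^ i = 0 := fun j hj => by
    have h := congrArg (algebraMap F (AdjoinRoot f)) hj
    rw [map_pow, hnorm, map_one, ← pow_mul, pow_eq_one_iff_cast] at h
    push_cast at h
    rw [hu, neg_sq]
    linear_combination h
  by_cases hvu : IsUnit v
  · -- one irreducible factor
    right
    have hvm : v.Monic := (hfm.pow k).of_mul_monic_left (hv ▸ minpoly.monic hint)
    rw [hvm.eq_one_of_isUnit hvu, mul_one] at hv
    have hfA : aeval A f ^ k = 0 := by rw [← map_pow, hA0, hv]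
    have hroot : aeval ((α⁻¹) ^ q) f = 0 := by
      have h1 : μ ∣ ((f ^ k).map σ).comp (X ^ N) := by
        rw [← hA0]
        refine IsAdj.unique hN (hadjP (f ^ k)) ?_
        rw [map_pow, hfA]
        exact isAdj_zero
      rw [Polynomial.map_pow, pow_comp] at h1
      have h2 : f ∣ (f.map σ).comp (X ^ N) := hf.prime.dvd_of_dvd_pow (hfd.trans h1)
      have h3 : f ∣ X ^ (N + 1) - 1 :=
        hfd.trans ((hA0 _).1 (by rw [map_sub, map_pow, aeval_X, hgN, map_one, sub_self]))
      rw [← AdjoinRoot.mk_eq_zero, ← AdjoinRoot.aeval_eq, aeval_comp, map_pow, aeval_X] at h2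
      rw [← AdjoinRoot.mk_eq_zero, map_sub, map_pow, AdjoinRoot.mk_X, map_one, sub_eq_zero, pow_succ] at h3
      rw [← hα] at h2 h3
      rw [eq_inv_of_mul_eq_one_left h3] at h2
      obtain ⟨k', -, hk'⟩ := (Nat.dvd_prime_pow (Fact.out : p.Prime)).1
        (show q ∣ p ^ ((FiniteField.card F p).choose : ℕ) by
          rw [← (FiniteField.card F p).choose_spec.2, hF]; exact dvd_pow_self q two_ne_zero)
      haveI : CharP (AdjoinRoot f) p :=
        charP_of_injective_algebraMap (algebraMap F (AdjoinRoot f)).injective p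
      haveI : ExpChar (AdjoinRoot f) p := ExpChar.prime Fact.out
      let φ : AdjoinRoot f →+* AdjoinRoot f := iterateFrobenius _ p k'
      have hφ : ∀ x, φ x = x ^ q := fun x => by rw [hk']; exact iterateFrobenius_def p k' x
      have h4 := congrArg φ h2
      rw [map_zero, aeval_def, Polynomial.hom_eval₂, eval₂_map, hφ] at h4
      rwa [show (φ.comp (algebraMap F (AdjoinRoot f))).comp σ = algebraMap F (AdjoinRoot f) from
        RingHom.ext fun c => by
          rw [RingHom.comp_apply, RingHom.comp_apply, hφ, hσ, ← map_pow, ← pow_mul, ← sq, ← hF,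
            FiniteField.pow_card], ← aeval_def] at h4
    obtain ⟨i, hi⟩ := root_eq_pow hF hroot
    have hodd : ∃ e, u ^ (2 * e + 1) = 1 := by
      refine ⟨i + d - 1, ?_⟩
      have h1 : α ^ ((q ^ 2) ^ i + q) = α ^ 0 := by
        rw [pow_zero, pow_add, ← hi, inv_pow, inv_mul_cancel₀ (pow_ne_zero _ hα0)]
      have h2 := cast_eq_of_pow_eq hα0 h1
      push_cast at h2
      have h3 : u ^ (2 * i) = u := by rw [pow_mul, hu, neg_sq]; linear_combination h2
      have hd1 : 1 ≤ d := hf.natDegree_pos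
      calc u ^ (2 * (i + d - 1) + 1) = u ^ (2 * i) * u ^ (2 * d - 1) := by rw [← pow_add]; congr 1; omega
        _ = u ^ (2 * d) := by rw [h3, ← pow_succ']; congr 1; omega
        _ = 1 := hu2d
    obtain ⟨e, he⟩ := hodd
    have hg1 : u ^ Nat.gcd d (2 * e + 1) = 1 := by
      have h := pow_gcd_eq_one.2 ⟨hu2d, he⟩
      rwa [Nat.Coprime.gcd_mul_left_cancel d (show Nat.Coprime 2 (2 * e + 1) from by
        rw [Nat.coprime_two_left]; exact ⟨e, rfl⟩)] at h
    obtain ⟨e', he'⟩ : Odd (Nat.gcd d (2 * e + 1)) :=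
      Odd.of_dvd_nat ⟨e, rfl⟩ (Nat.gcd_dvd_right _ _)
    obtain ⟨d', hd'⟩ := Nat.gcd_dvd_left d (2 * e + 1)
    rw [he'] at hg1 hd'
    obtain ⟨j, hjd, hjdet⟩ := det_of_aeval_pow A hf hfm hfA
    rw [hdet] at hjdet
    have h5 := hscalar j hjdet.symm
    have hg2 : (u ^ 2) ^ (2 * e' + 1) = 1 := by rw [← pow_mul, mul_comm, pow_mul, hg1, one_pow]
    rw [show Finset.range d = Finset.range (d' * (2 * e' + 1)) by rw [mul_comm, ← hd'],
      sum_mul_period hg2, sum_sq_period hg1] at h5
    have hoM : o ∣ torusM q n := by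
      rw [← zsum_cast_eq_zero_iff, ← hu, ← hV, ← hjd, show j * f.natDegree = (j * d') * (2 * e' + 1) by
        rw [← hd, hd']; ring, sum_mul_period hg1]
      push_cast
      linear_combination h5
    obtain ⟨γ, -, hγ⟩ := exists_scalar_factor hF hn hσ hoM
    refine ⟨γ ^ p ^ Nat.clog p n, ?_⟩
    have := pow_eq_smul_of_factor hkn hγ A 1 (by rw [hfA, zero_mul])
    rwa [mul_one] at this
  -- several irreducible factors
  have hvm : v.Monic := (hfm.pow k).of_mul_monic_left (hv ▸ minpoly.monic hint)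
  obtain ⟨a, b, hab⟩ : IsCoprime (f ^ k) v := (hf.coprime_iff_not_dvd.2 hfv).pow_left
  set e := aeval A (b * v) with he
  set e' := aeval A (((b * v).map σ).comp (X ^ N)) with he'
  have hee : e * e = e := by
    rw [he, ← map_mul, ← sub_eq_zero, ← map_sub, hA0, hv]
    exact ⟨-(a * b), by linear_combination (b * v) * hab⟩
  have he0 : e ≠ 0 := fun h0 => by
    rw [he, hA0, hv] at h0
    have h1 := hab ▸ dvd_add (dvd_mul_of_dvd_right (dvd_pow_self f hk0) a)
      (dvd_mul_of_dvd_left ((dvd_pow_self f hk0).trans ((mul_dvd_mul_iff_right hvm.ne_zero).1 h0)) v)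
    exact hf.not_isUnit (isUnit_of_dvd_one h1)
  have he1 : e ≠ 1 := fun h0 => by
    have h1 : aeval A (a * f ^ k) = 0 := by
      have := congrArg (aeval A) hab
      rw [map_add, map_one, ← he, h0] at this
      simpa using this
    rw [hA0, hv, mul_comm (f ^ k) v] at h1
    have h2 := hab ▸ dvd_add (dvd_mul_of_dvd_left ((mul_dvd_mul_iff_right (pow_ne_zero _ hf.ne_zero)).1 h1) (f ^ k))
      (dvd_mul_left v b)
    exact hvu (isUnit_of_dvd_one h2)
  have hadje : IsAdj B e e' := hadjP _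
  have hadje' : IsAdj B e' e := hadje.symm hB
  have hee' : e' * e' = e' := IsAdj.unique hN (hee ▸ hadje.mul hadje) hadje
  have hcomm : ∀ P Q : F[X], Commute (aeval A P) (aeval A Q) := fun P Q => (Commute.all P Q).map _
  have hcA : ∀ P : F[X], Commute A (aeval A P) := fun P => by simpa using hcomm X P
  have hce : e * e' = e' * e := (hcomm _ _).eq
  by_cases hs : e * e' = 0
  swap
  · left
    refine exists_split hσ hN hV hr hrn hrq hε g (e := e * e') ?_ ?_ hs ?_ ((hcA _).mul_right (hcA _))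
    · have h := hadje.mul hadje'
      rwa [hce] at h ⊢
    · rw [mul_assoc, ← mul_assoc e', ← hce, mul_assoc, hee', ← mul_assoc, hee]
    · intro h1
      exact he1 (by rw [← mul_one e, ← h1, ← mul_assoc, hee])
  have hs' : e' * e = 0 := hce ▸ hs
  by_cases ht : e + e' = 1
  swap
  · left
    refine exists_split hσ hN hV hr hrn hrq hε g (e := e + e') ?_ ?_ ?_ ht ((hcA _).add_right (hcA _))
    · have h := hadje.add hadje'
      rwa [add_comm e' e] at h
    · rw [add_mul, mul_add, mul_add, hee, hee', hs, hs', add_zero, zero_add]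
    · intro h0
      exact he0 (calc e = e * (e + e') := by rw [mul_add, hee, hs, add_zero]
        _ = 0 := by rw [h0, mul_zero])
  -- a dual pair of isotropic subspaces
  right
  have hfe : aeval A f ^ k * e = 0 := by
    rw [← map_pow, he, ← map_mul, hA0, hv]
    exact ⟨b, by ring⟩
  have hhe' : aeval Ai (f.map σ) ^ k * e' = 0 := by
    rw [← map_pow, ← Polynomial.map_pow, hcomp, he', (hcomm _ _).eq]
    refine IsAdj.unique hN ((hadjP (f ^ k)).mul hadje) ?_
    rw [map_pow, hfe]
    exact isAdj_zero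
  set W := LinearMap.range e with hW
  set W' := LinearMap.range e' with hW'
  have hfix : ∀ x ∈ W, e x = x := fun x ⟨y, hy⟩ => by rw [← hy, ← Module.End.mul_apply, hee]
  have hfix' : ∀ x ∈ W', e' x = x := fun x ⟨y, hy⟩ => by rw [← hy, ← Module.End.mul_apply, hee']
  have hadd : ∀ x, e x + e' x = x := fun x => LinearMap.congr_fun ht x
  have hcompl : IsCompl W W' := by
    refine ⟨disjoint_iff.2 ((Submodule.eq_bot_iff _).2 fun x ⟨hx, hx'⟩ => ?_), codisjoint_iff.2 ?_⟩
    · rw [← hfix x hx, ← hfix' x hx', ← Module.End.mul_apply, hs, LinearMap.zero_apply]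
    · rw [eq_top_iff]
      intro x _
      exact Submodule.mem_sup.2 ⟨e x, ⟨x, rfl⟩, e' x, ⟨x, rfl⟩, hadd x⟩
  have hdim : ∀ X Y : Module.End F V, IsAdj B X Y → (∀ x, Y x = 0 → x ∈ LinearMap.range X) →
      n ≤ 2 * finrank F (LinearMap.range X) := fun X Y hXY hker => by
    have h1 := finrank_le_finrank_perp_add B (LinearMap.range X)
    have h2 : perp B (LinearMap.range X) ≤ LinearMap.range X := fun x hx => hker x (hN _ fun w => by
      rw [← hXY]; exact mem_perp.1 hx _ ⟨w, rfl⟩)
    have := Submodule.finrank_mono h2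
    omega
  have hW1 := hdim e e' hadje fun x hx => ⟨x, by have := hadd x; rwa [hx, add_zero] at this⟩
  have hW2 := hdim e' e hadje' fun x hx => ⟨x, by have := hadd x; rwa [hx, zero_add] at this⟩
  have hsum := Submodule.finrank_add_eq_of_isCompl hcompl
  rw [hV] at hsum
  rw [← hW] at hW1
  rw [← hW'] at hW2
  have hinv : ∀ P Q : F[X], ∀ x ∈ LinearMap.range (aeval A P), aeval A Q x ∈ LinearMap.range (aeval A P) :=
    fun P Q x ⟨y, hy⟩ => ⟨aeval A Q y, by rw [← hy, ← Module.End.mul_apply, ← Module.End.mul_apply, (hcomm P Q).eq]⟩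
  have hAW : ∀ x ∈ W, A x ∈ W := fun x hx => by
    have h := hinv _ X x hx
    rwa [aeval_X] at h
  have hAW' : ∀ x ∈ W', A x ∈ W' := fun x hx => by
    have h := hinv _ X x hx
    rwa [aeval_X] at h
  have hAiW' : ∀ x ∈ W', Ai x ∈ W' := fun x hx => by
    have h := hinv _ (X ^ N) x hx
    rwa [map_pow, aeval_X, ← hAiN] at h
  have hfW : aeval (A.restrict hAW) f ^ k = 0 := by
    rw [← map_pow]
    refine LinearMap.ext fun x => Subtype.ext ?_
    show W.subtype _ = (0 : V)
    rw [aeval_intertwine W.subtype (A.restrict hAW) A (fun _ => rfl), Submodule.subtype_apply, ← hfix x x.2,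
      ← Module.End.mul_apply, map_pow, hfe, LinearMap.zero_apply]
  have hσbij : Function.Bijective σ := Function.Involutive.bijective hB.conj.invol
  have hhirr : Irreducible (f.map σ) := by
    let σe := RingEquiv.ofBijective σ hσbij
    exact (MulEquiv.irreducible_iff (Polynomial.mapEquiv σe)).2 hf
  have hhW : aeval (Ai.restrict hAiW') (f.map σ) ^ k = 0 := by
    rw [← map_pow]
    refine LinearMap.ext fun x => Subtype.ext ?_
    show W'.subtype _ = (0 : V)
    rw [aeval_intertwine W'.subtype (Ai.restrict hAiW') Ai (fun _ => rfl), Submodule.subtype_apply, ← hfix' x x.2,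
      ← Module.End.mul_apply, map_pow, hhe', LinearMap.zero_apply]
  obtain ⟨j, hjd, hjdet⟩ := det_of_aeval_pow (A.restrict hAW) hf hfm hfW
  obtain ⟨j', hjd', hjdet'⟩ := det_of_aeval_pow (Ai.restrict hAiW') hhirr (hfm.map σ) hhW
  rw [Polynomial.natDegree_map, coeff_map] at hjdet'
  rw [Polynomial.natDegree_map] at hjd'
  have hjj : j' = j := Nat.eq_of_mul_eq_mul_right hf.natDegree_pos (by omega)
  have hone : LinearMap.det (A.restrict hAW') * LinearMap.det (Ai.restrict hAiW') = 1 := by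
    rw [← map_mul, show A.restrict hAW' * Ai.restrict hAiW' = 1 from
      LinearMap.ext fun x => Subtype.ext (LinearMap.congr_fun hAAi x.1), map_one]
  have hsplit := det_eq_mul_restrict hcompl A hAW hAW'
  rw [hdet, hjdet] at hsplit
  set N0 := (-1 : F) ^ d * f.coeff 0 with hN0
  have hσN : σ N0 = (-1 : F) ^ d * σ (f.coeff 0) := by rw [hN0, map_mul, map_pow, map_neg, map_one]
  rw [hjdet', hjj, ← hσN] at hone
  have hj2 : N0 ^ j = σ N0 ^ j := by
    linear_combination (N0 ^ j) * hone.symm + (-(σ N0 ^ j)) * hsplit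
  have hoM : o ∣ torusM q n := by
    rw [← zsum_cast_eq_zero_iff, ← hu, show n = j * (2 * d) by rw [mul_left_comm, hjd]; omega,
      sum_mul_period hu2d, sum_two_mul_period]
    have h := congrArg (algebraMap F (AdjoinRoot f)) hj2
    rw [map_pow, map_pow, hσ, map_pow, hnorm, ← pow_mul, ← pow_mul, ← pow_mul] at h
    have h2 := cast_eq_of_pow_eq hα0 h
    push_cast at h2
    rw [hu, neg_sq]
    linear_combination h2
  obtain ⟨γ, hγ1, hγ⟩ := exists_scalar_factor hF hn hσ hoM
  refine ⟨γ ^ p ^ Nat.clog p n, ?_⟩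
  set P := torusT q n * p ^ Nat.clog p n
  set c := γ ^ p ^ Nat.clog p n
  have h1 : A ^ P * e = c • e := pow_eq_smul_of_factor hkn hγ A e hfe
  have h2 : e' * Ai ^ P = σ c • e' := by
    refine IsAdj.unique hN ((hadj.pow P).mul hadje) ?_
    rw [h1]
    exact hadje.smul c
  have h3 : A ^ P * e' = c • e' := by
    have hAA : Ai ^ P * A ^ P = 1 := by
      have hcm : Commute A Ai := hAiN ▸ (Commute.refl A).pow_right N
      rw [← (hcm.pow_pow P P).eq, ← hcm.mul_pow, hAAi, one_pow]
    have h4 : e' = σ c • (e' * A ^ P) := by rw [← smul_mul_assoc, ← h2, mul_assoc, hAA, mul_one]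
    have hc1 : c * σ c = 1 := by rw [map_pow, ← mul_pow, mul_comm, hγ1, one_pow]
    conv_rhs => rw [h4, smul_smul, hc1, one_smul]
    exact ((hcA _).pow_left P).eq
  rw [← mul_one (A ^ P), ← ht, mul_add, h1, h3, smul_add]

/-- The dichotomy in `PSU`. -/
theorem dichotomy {n q p r : ℕ} [Fact p.Prime] [CharP F p] (hF : Fintype.card F = q ^ 2) (hn : 2 ≤ n)
    (hσ : ∀ x, σ x = x ^ q) (hc : IsConjugation σ) (hr : r.Prime) (hrn : ¬ r ∣ n) (hrq : r ∣ q + 1)
    {ε : F} (hε : orderOf ε = r) (x : Cfsg.PSU n F q) (hx : ¬ r ∣ orderOf x) :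
    (∃ y : Cfsg.PSU n F q, r * orderOf x ∣ orderOf y) ∨ orderOf x ∣ p ^ Nat.clog p n * torusT q n := by
  obtain ⟨a, rfl⟩ := QuotientGroup.mk_surjective x
  rcases isometry_dichotomy (p := p) hF hn hσ (stdHerm_isHermitian hc n) (stdHerm_sepRight n)
    (Module.finrank_fin_fun F) hr hrn hrq hε (suIsom hσ a) (suIsom_det hσ a) with ⟨h, hdet, hcomm, hhr, hsc⟩ | ⟨t, ht⟩
  · left
    obtain ⟨b, hb⟩ := exists_suIsom hσ h hdet
    have hba : Commute b a := by
      refine Subtype.ext (Subtype.ext (Matrix.toLin'.injective ?_))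
      show Matrix.toLin' ((b.1 : Matrix (Fin n) (Fin n) F) * (a.1 : Matrix (Fin n) (Fin n) F)) =
        Matrix.toLin' ((a.1 : Matrix (Fin n) (Fin n) F) * (b.1 : Matrix (Fin n) (Fin n) F))
      rw [Matrix.toLin'_mul, Matrix.toLin'_mul, ← suIsom_apply hσ a, ← suIsom_apply hσ b, hb]
      exact congrArg toEndU hcomm.eq
    have hord : orderOf (QuotientGroup.mk b : Cfsg.PSU n F q) = r := by
      refine ((Nat.dvd_prime hr).1 (orderOf_dvd_of_pow_eq_one ?_)).resolve_left fun h1 => ?_
      · rw [← QuotientGroup.mk_pow, QuotientGroup.eq_one_iff, mem_center_iff hF hn hσ]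
        exact ⟨1, by rw [map_pow, hb, map_pow, hhr, one_smul]⟩
      · obtain ⟨t, ht⟩ := (mem_center_iff hF hn hσ b).1 ((QuotientGroup.eq_one_iff b).1 (orderOf_eq_one_iff.1 h1))
        exact hsc t (hb ▸ ht)
    refine ⟨QuotientGroup.mk b * QuotientGroup.mk a, ?_⟩
    have hc' : Commute (QuotientGroup.mk b : Cfsg.PSU n F q) (QuotientGroup.mk a) :=
      hba.map (QuotientGroup.mk' _)
    rw [hc'.orderOf_mul_eq_mul_orderOf_of_coprime]
    · exact dvd_of_eq (congrArg (· * _) hord.symm)
    · exact hord.symm ▸ hr.coprime_iff_not_dvd.2 hx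
  · right
    rw [mul_comm]
    refine orderOf_dvd_of_pow_eq_one ?_
    rw [← QuotientGroup.mk_pow, QuotientGroup.eq_one_iff, mem_center_iff hF hn hσ]
    exact ⟨t, by rw [map_pow, map_pow, ht]⟩

end CfsgLib.Classical.PSUSpectrum
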