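import Cfsg.Agent.Lib.Classical.PSUSpectrum.Models
import Cfsg.Agent.Lib.KnownC.PSLOrders
import Cfsg.Agent.NumberTheory.PrimitivePart

set_option autoImplicit false
set_option linter.unusedSectionVars false

/-! Elements of order `q^m + (-1)^m` in `PSU_{2m}(q)`. -/

namespace CfsgLib.Classical.PSUSpectrum.Half

open Matrix Polynomial CfsgLib.Classical

/-- `q ^ (n/2) ± 1`. -/
def halfN (q n : ℕ) : ℕ := if Even (n / 2) then q ^ (n / 2) + 1 else q ^ (n / 2) - 1

section Arith

variable {q n : ℕ}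

theorem torusM_mul (hq : 2 ≤ q) (heven : Even n) : torusM q n * (q + 1) = q ^ n - 1 := by
  have h1 := geom_sum_mul (-(q : ℤ)) n
  rw [show ∑ i ∈ Finset.range n, (-(q : ℤ)) ^ i = zsum q n from rfl, heven.neg_pow] at h1
  have h2 := congrArg Int.natAbs h1
  rw [Int.natAbs_mul] at h2
  have h3 : ((q : ℤ) ^ n - 1) = ((q ^ n - 1 : ℕ) : ℤ) := by
    rw [Nat.cast_sub (Nat.one_le_pow _ _ (by omega))]; push_cast; ring
  rw [h3, Int.natAbs_natCast] at h2
  rw [torusM, ← h2]
  congr 1
  omega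

/-- The prime dividing `halfN` for which `-q` has multiplicative order `n`. -/
theorem exists_prime (hodd : Odd q) (hq : 2 ≤ q) (hn : 4 ≤ n) (heven : Even n) :
    ∃ r : ℕ, r.Prime ∧ r ∣ halfN q n ∧ r ∣ q ^ n - 1 ∧
      ∀ k, 0 < k → k < n → (-(q : ZMod r)) ^ k ≠ 1 := by
  obtain ⟨m, rfl⟩ : ∃ m, n = 2 * m := ⟨n / 2, by obtain ⟨k, hk⟩ := heven; omega⟩
  have hm : 2 * m / 2 = m := by omega
  have hsq : q ^ (2 * m) - 1 = (q ^ m + 1) * (q ^ m - 1) := by
    rw [mul_comm 2 m, pow_mul, ← Nat.sq_sub_sq, one_pow]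
  have h6 : ∀ j, ¬ (q = 2 ∧ j = 6) := fun j h => by
    obtain ⟨c, hc⟩ := hodd; omega
  have hcast : ∀ {r j : ℕ}, (q : ZMod r) ^ j = 1 → r ∣ q ^ j - 1 := fun {r j} h => by
    rw [← ZMod.natCast_eq_zero_iff, Nat.cast_sub (Nat.one_le_pow _ _ (by omega))]
    push_cast
    rw [h, sub_self]
  have hcast' : ∀ {r j : ℕ}, r ∣ q ^ j - 1 → (q : ZMod r) ^ j = 1 := fun {r j} h => by
    rw [← ZMod.natCast_eq_zero_iff, Nat.cast_sub (Nat.one_le_pow _ _ (by omega))] at h
    push_cast at h
    exact sub_eq_zero.1 h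
  rw [halfN, hm]
  rcases Nat.even_or_odd m with hme | hmo
  · rw [if_pos hme]
    obtain ⟨r, hr, hd, hmin⟩ := CfsgLib.NT.exists_primitive_prime hq (by omega : 2 ≤ 2 * m) (h6 _)
      (fun h => by omega)
    have hnm : ¬ r ∣ q ^ m - 1 := hmin m (by omega) (by omega)
    refine ⟨r, hr, (hr.dvd_mul.1 (hsq ▸ hd)).resolve_right hnm, hd, fun k hk0 hk h => ?_⟩
    haveI := Fact.mk hr
    have h2 : (q : ZMod r) ^ (2 * k) = 1 := by rw [pow_mul, ← neg_sq, ← pow_mul, mul_comm, pow_mul, h, one_pow]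
    have hord : orderOf (q : ZMod r) = 2 * m :=
      (orderOf_eq_iff (by omega)).2 ⟨hcast' hd, fun j hj hj0 he => hmin j hj0 hj (hcast he)⟩
    have hdk := orderOf_dvd_of_pow_eq_one h2
    rw [hord] at hdk
    have hkm : k = m := by
      obtain ⟨c, hc⟩ := Nat.dvd_of_mul_dvd_mul_left two_pos hdk
      rcases c with _ | _ | c
      · omega
      · omega
      · nlinarith
    rw [hkm, hme.neg_pow] at h
    exact hnm (hcast h)
  · rw [if_neg (Nat.not_even_iff_odd.2 hmo)]
    have hm3 : 3 ≤ m := by obtain ⟨c, hc⟩ := hmo; omega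
    obtain ⟨r, hr, hd, hmin⟩ := CfsgLib.NT.exists_primitive_prime hq (by omega : 2 ≤ m) (h6 _)
      (fun h => by omega)
    refine ⟨r, hr, hd, hsq ▸ hd.mul_left _, fun k hk0 hk h => ?_⟩
    haveI := Fact.mk hr
    have h2 : (q : ZMod r) ^ (2 * k) = 1 := by rw [pow_mul, ← neg_sq, ← pow_mul, mul_comm, pow_mul, h, one_pow]
    have hord : orderOf (q : ZMod r) = m :=
      (orderOf_eq_iff (by omega)).2 ⟨hcast' hd, fun j hj hj0 he => hmin j hj0 hj (hcast he)⟩
    have hr2 : r ≠ 2 := by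
      rintro rfl
      exact hmin 1 one_pos (by omega) (by obtain ⟨c, hc⟩ := hodd; rw [pow_one]; omega)
    have hdk := orderOf_dvd_of_pow_eq_one h2
    rw [hord] at hdk
    have hkm : k = m := by
      obtain ⟨c, hc⟩ := (Nat.Coprime.dvd_of_dvd_mul_left
        ((Nat.coprime_two_right).2 hmo) hdk)
      rcases c with _ | _ | c
      · omega
      · omega
      · nlinarith
    rw [hkm, hmo.neg_pow, hcast' hd] at h
    haveI : Fact (2 < r) := ⟨by have := hr.two_le; omega⟩
    exact ZMod.neg_one_ne_one h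

theorem halfN_dvd_torusT (hodd : Odd q) (hq : 2 ≤ q) (hn : 4 ≤ n) (heven : Even n)
    (h : padicValNat 2 (q + 1) < padicValNat 2 n) :
    halfN q n ∣ torusT q n := by
  haveI : Fact (Nat.Prime 2) := ⟨Nat.prime_two⟩
  obtain ⟨m, rfl⟩ : ∃ m, n = 2 * m := ⟨n / 2, by obtain ⟨k, hk⟩ := heven; omega⟩
  rw [padicValNat.mul (by omega) (by omega), padicValNat.self (by omega)] at h
  have hq1 : 1 ≤ padicValNat 2 (q + 1) :=
    one_le_padicValNat_of_dvd (by omega) (by obtain ⟨c, hc⟩ := hodd; omega)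
  set d := Nat.gcd (2 * m) (q + 1) with hd
  have hd0 : d ≠ 0 := (Nat.gcd_pos_of_pos_right _ (by omega)).ne'
  have hdq : d ∣ q + 1 := Nat.gcd_dvd_right _ _
  -- the gcd divides `m`
  have hdm : d ∣ m := by
    obtain ⟨a, b, hb, hab⟩ := Nat.exists_eq_two_pow_mul_odd hd0
    have ha : a ≤ padicValNat 2 m := by
      have h1 : 2 ^ a ∣ q + 1 := (Dvd.intro b hab.symm).trans hdq
      have := (padicValNat_dvd_iff_le (by omega : q + 1 ≠ 0)).1 h1
      omega
    rw [hab]
    refine Nat.Coprime.mul_dvd_of_dvd_of_dvd ((Nat.coprime_two_left.2 hb).pow_left a) ?_ ?_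
    · exact (pow_dvd_pow 2 ha).trans pow_padicValNat_dvd
    · exact Nat.Coprime.dvd_of_dvd_mul_left ((Nat.coprime_two_right).2 hb)
        ((Dvd.intro_left _ hab.symm).trans (Nat.gcd_dvd_left _ _))
  -- `m` is even
  have hme : Even m := by
    rw [even_iff_two_dvd]
    by_contra h2
    rw [padicValNat.eq_zero_of_not_dvd h2] at h
    omega
  obtain ⟨j, hj⟩ : ∃ j, m = 2 * j := ⟨m / 2, by obtain ⟨k, hk⟩ := hme; omega⟩
  have hm : 2 * m / 2 = m := by omega
  rw [halfN, hm, if_pos hme]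
  refine Nat.dvd_of_mul_dvd_mul_right (Nat.pos_of_ne_zero hd0) ?_
  rw [torusT_mul]
  refine Nat.dvd_of_mul_dvd_mul_right (by omega : 0 < q + 1) ?_
  rw [torusM_mul hq ⟨m, by omega⟩, show q ^ (2 * m) - 1 = (q ^ m + 1) * (q ^ m - 1) by
    rw [mul_comm 2 m, pow_mul, ← Nat.sq_sub_sq, one_pow], mul_assoc]
  refine mul_dvd_mul_left _ ?_
  -- `d * (q + 1)` divides `q ^ m - 1`
  have key : ((d * (q + 1) : ℕ) : ℤ) ∣ (q : ℤ) ^ m - 1 := by
    rw [hj, pow_mul, ← geom_sum_mul ((q : ℤ) ^ 2) j,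
      show ((q : ℤ) ^ 2 - 1) = ((q : ℤ) - 1) * ((q : ℤ) + 1) by ring, ← mul_assoc]
    push_cast
    refine mul_dvd_mul_right ?_ _
    rw [← ZMod.intCast_zmod_eq_zero_iff_dvd]
    push_cast
    have h1 : (q : ZMod d) = -1 := by
      rw [← ZMod.natCast_eq_zero_iff] at hdq
      push_cast at hdq
      linear_combination hdq
    have h2 : ((2 : ZMod d)) * (j : ZMod d) = 0 := by
      rw [← ZMod.natCast_eq_zero_iff, hj] at hdm
      push_cast at hdm
      exact hdm
    rw [h1]
    simp only [even_two.neg_pow, one_pow, Finset.sum_const, Finset.card_range, nsmul_one]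
    linear_combination -h2
  have : ((d * (q + 1) : ℕ) : ℤ) ∣ ((q ^ m - 1 : ℕ) : ℤ) := by
    rw [Nat.cast_sub (Nat.one_le_pow _ _ (by omega))]
    push_cast at key ⊢
    exact key
  exact Int.natCast_dvd_natCast.1 this

/-- The two-adic obstruction. -/
theorem no_order (hodd : Odd q) (hq : 2 ≤ q) (hn : 4 ≤ n) (heven : Even n)
    (h : padicValNat 2 n ≤ padicValNat 2 (q + 1)) {o : ℕ} (ho : o ∣ torusM q n)
    (hN : o = halfN q n * Nat.gcd o (q + 1)) : False := by
  haveI : Fact (Nat.Prime 2) := ⟨Nat.prime_two⟩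
  obtain ⟨m, rfl⟩ : ∃ m, n = 2 * m := ⟨n / 2, by obtain ⟨k, hk⟩ := heven; omega⟩
  have hm : 2 * m / 2 = m := by omega
  rw [padicValNat.mul (by omega) (by omega), padicValNat.self (by omega)] at h
  set a := padicValNat 2 (q + 1) with ha
  have hqodd : ¬ 2 ∣ q := fun h2 => by obtain ⟨c, hc⟩ := hodd; omega
  have hM0 : torusM q (2 * m) ≠ 0 := fun e => by
    have h1 := torusM_mul (n := 2 * m) hq ⟨m, by omega⟩
    have := Nat.one_lt_pow (show 2 * m ≠ 0 by omega) (show 1 < q by omega)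
    rw [e, zero_mul] at h1
    omega
  have hN0 : halfN q (2 * m) ≠ 0 := fun e => by
    rw [e, zero_mul] at hN
    rw [hN, zero_dvd_iff] at ho
    exact hM0 ho
  have ho0 : o ≠ 0 := fun e => hM0 (zero_dvd_iff.1 (e ▸ ho))
  set b := padicValNat 2 (halfN q (2 * m)) with hb
  have hg0 : Nat.gcd o (q + 1) ≠ 0 := (Nat.gcd_pos_of_pos_right _ (by omega)).ne'
  have hsq : (q ^ 2 - 1 : ℕ) = (q + 1) * (q - 1) := by rw [← Nat.sq_sub_sq, one_pow]
  -- the valuation of `M`
  have hM : padicValNat 2 (torusM q (2 * m)) + 1 = padicValNat 2 (q - 1) + (1 + padicValNat 2 m) := by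
    have h1 := padicValNat.pow_two_sub_pow (x := q) (y := 1) (by omega) (by omega) hqodd
      (n := 2 * m) (by omega) ⟨m, by omega⟩
    rw [one_pow, ← torusM_mul (n := 2 * m) hq ⟨m, by omega⟩, padicValNat.mul hM0 (by omega),
      padicValNat.mul (by omega) (by omega), padicValNat.self (by omega)] at h1
    omega
  have hb1 : 1 ≤ b ∧ padicValNat 2 (torusM q (2 * m)) < a + b := by
    have ha1 : 1 ≤ a := one_le_padicValNat_of_dvd (by omega) (by obtain ⟨c, hc⟩ := hodd; omega)
    rcases Nat.even_or_odd m with hme | hmo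
    · have hNm : halfN q (2 * m) = q ^ m + 1 := by rw [halfN, hm, if_pos hme]
      have hb1 : 1 ≤ b := one_le_padicValNat_of_dvd hN0 (by
        rw [hNm]
        have := (Nat.odd_iff.1 (hodd.pow (n := m)))
        omega)
      have hm1 : 1 ≤ padicValNat 2 m := one_le_padicValNat_of_dvd (by omega) (even_iff_two_dvd.1 hme)
      -- four divides `q + 1`, so `q - 1` is twice odd
      have h4 : 2 ^ 2 ∣ q + 1 := (padicValNat_dvd_iff_le (by omega)).2 (by omega)
      have hq1 : padicValNat 2 (q - 1) < 2 := by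
        by_contra hc
        have h4' : 2 ^ 2 ∣ q - 1 := (padicValNat_dvd_iff_le (by omega)).2 (by omega)
        omega
      exact ⟨hb1, by omega⟩
    · have hNm : halfN q (2 * m) = q ^ m - 1 := by rw [halfN, hm, if_neg (Nat.not_even_iff_odd.2 hmo)]
      have hm0 : padicValNat 2 m = 0 := padicValNat.eq_zero_of_not_dvd (by obtain ⟨c, hc⟩ := hmo; omega)
      have hb' : padicValNat 2 (q - 1) ≤ b := by
        rw [← padicValNat_dvd_iff_le hN0]
        refine pow_padicValNat_dvd.trans (hNm ▸ ?_)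
        simpa using Nat.sub_dvd_pow_sub_pow q 1 m
      have : 1 ≤ padicValNat 2 (q - 1) := one_le_padicValNat_of_dvd (by omega) (by obtain ⟨c, hc⟩ := hodd; omega)
      exact ⟨by omega, by omega⟩
  -- the valuation of `o`
  have hoe : padicValNat 2 o = b + padicValNat 2 (Nat.gcd o (q + 1)) := by
    conv_lhs => rw [hN]
    rw [padicValNat.mul hN0 hg0]
  have hga : a ≤ padicValNat 2 (Nat.gcd o (q + 1)) := by
    by_contra hlt
    have h1 : 2 ^ min (padicValNat 2 o) a ∣ Nat.gcd o (q + 1) :=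
      Nat.dvd_gcd ((pow_dvd_pow 2 (min_le_left _ _)).trans pow_padicValNat_dvd)
        ((pow_dvd_pow 2 (min_le_right _ _)).trans pow_padicValNat_dvd)
    have := (padicValNat_dvd_iff_le hg0).1 h1
    omega
  have hoM : padicValNat 2 o ≤ padicValNat 2 (torusM q (2 * m)) :=
    (padicValNat_dvd_iff_le hM0).1 (pow_padicValNat_dvd.trans ho)
  omega

end Arith

section Eigen

variable {F : Type*} [Field F] [Fintype F] {q n : ℕ}

theorem transpose_mul_map (hF : Fintype.card F = q ^ 2) (A : Cfsg.SU n F q) :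
    (A.1 : Matrix (Fin n) (Fin n) F)ᵀ * (A.1 : Matrix (Fin n) (Fin n) F).map (fun x => x ^ q) = 1 := by
  have hq := two_le_of_card_sq hF
  ext i j
  have h : Cfsg.hermForm n F q ((A.1 : Matrix (Fin n) (Fin n) F) *ᵥ Pi.single i 1)
      ((A.1 : Matrix (Fin n) (Fin n) F) *ᵥ Pi.single j 1) =
      Cfsg.hermForm n F q (Pi.single i 1) (Pi.single j 1) := A.2 _ _
  simp only [Cfsg.hermForm, mulVec_single_one, col_apply] at h
  rw [mul_apply, one_apply]
  simp only [transpose_apply, map_apply]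
  rw [h, Finset.sum_eq_single i (fun k _ hk => by simp [hk]) (by simp)]
  rcases eq_or_ne i j with rfl | hij
  · simp
  · simp [hij]
    omega

variable {L : Type*} [Field L] [Algebra F L]

theorem root_closed {p k : ℕ} [Fact p.Prime] [CharP L p] (hqp : q = p ^ k) {A : Matrix (Fin n) (Fin n) F}
    (hA : Aᵀ * A.map (fun x => x ^ q) = 1) {β : L} (hβ0 : β ≠ 0)
    (hβ : (A.map (algebraMap F L)).charpoly.eval β = 0) :
    (A.map (algebraMap F L)).charpoly.eval (β ^ q)⁻¹ = 0 := by
  haveI : ExpChar L p := ExpChar.prime Fact.out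
  set B := A.map (algebraMap F L) with hB
  have hB' : Bᵀ * B.map (iterateFrobenius L p k) = 1 := by
    have h := congrArg (fun M : Matrix (Fin n) (Fin n) F => M.map (algebraMap F L)) hA
    simp only [Matrix.map_mul, Matrix.map_one _ (map_zero _) (map_one _)] at h
    rw [transpose_map] at h
    refine Eq.trans ?_ h
    congr 1
    ext i j
    simp [hB, iterateFrobenius_def, hqp]
  rw [eval_charpoly] at hβ ⊢
  have h1 : (Matrix.scalar (Fin n) (β ^ q) - B.map (iterateFrobenius L p k)).det = 0 := by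
    have h := congrArg (iterateFrobenius L p k) hβ
    rw [RingHom.map_det, map_zero, RingHom.mapMatrix_apply] at h
    rw [Matrix.map_sub _ (map_sub (iterateFrobenius L p k)), scalar_apply,
      diagonal_map (map_zero (iterateFrobenius L p k))] at h
    refine Eq.trans ?_ h
    simp [iterateFrobenius_def, hqp]
  have h2 : (Bᵀ * (Matrix.scalar (Fin n) (β ^ q) - B.map (iterateFrobenius L p k))).det = 0 := by
    rw [det_mul, h1, mul_zero]
  rw [mul_sub, hB', ← (Matrix.scalar_commute _ (fun _ => Commute.all _ _) _).eq] at h2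
  have hc : β ^ q ≠ 0 := pow_ne_zero _ hβ0
  have h3 : (Matrix.scalar (Fin n) (β ^ q) * Bᵀ - 1)ᵀ =
      (-(β ^ q)) • (Matrix.scalar (Fin n) (β ^ q)⁻¹ - B) := by
    ext i j
    rcases eq_or_ne i j with rfl | hij
    · simp [mul_sub, hc]
      ring
    · simp [hij, hij.symm]
  rw [← det_transpose, h3, det_smul, mul_eq_zero] at h2
  exact h2.resolve_left (pow_ne_zero _ (neg_ne_zero.2 hc))

theorem pow_eq_scalar {A : Matrix (Fin n) (Fin n) F} {i : ℕ} {t : F} (hA : A ^ i = t • 1) {β : L}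
    (hβ : (A.map (algebraMap F L)).charpoly.eval β = 0) : β ^ i = algebraMap F L t := by
  rw [eval_charpoly] at hβ
  obtain ⟨v, hv0, hv⟩ := Matrix.exists_mulVec_eq_zero_iff.2 hβ
  set B := A.map (algebraMap F L)
  have hB : B *ᵥ v = β • v := by
    rw [sub_mulVec, sub_eq_zero] at hv
    rw [← hv]
    ext j
    simp [mulVec_diagonal]
  have hi : ∀ j : ℕ, (B ^ j) *ᵥ v = β ^ j • v := by
    intro j
    induction j with
    | zero => simp
    | succ j ih => rw [pow_succ, ← mulVec_mulVec, hB, mulVec_smul, ih, smul_smul, pow_succ, mul_comm]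
  have h := hi i
  rw [show B ^ i = (algebraMap F L t) • 1 by
    rw [show B ^ i = (A ^ i).map (algebraMap F L) from (map_pow (algebraMap F L).mapMatrix A i).symm, hA]
    ext a b
    rcases eq_or_ne a b with rfl | hab
    · simp
    · simp [hab], smul_mulVec, one_mulVec] at h
  exact (smul_left_injective L hv0 h).symm

end Eigen

section Main

theorem orderOf_dvd_of_zpow {L : Type*} [Field L] {β : L} (h0 : β ≠ 0) {z : ℤ} (h : β ^ z = 1) :
    (orderOf β : ℤ) ∣ z := by
  rw [show orderOf β = orderOf (Units.mk0 β h0) from (orderOf_units (y := Units.mk0 β h0))]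
  exact orderOf_dvd_iff_zpow_eq_one.2 (Units.ext (by rw [Units.val_zpow_eq_zpow_val]; exact h))

variable {F : Type*} [Field F] [Fintype F] {q n : ℕ}

set_option maxHeartbeats 1000000 in
theorem orderOf_ne (hF : Fintype.card F = q ^ 2) (hodd : Odd q) (hn : 4 ≤ n) (heven : Even n)
    (h : padicValNat 2 n ≤ padicValNat 2 (q + 1)) (y : Cfsg.PSU n F q) : orderOf y ≠ halfN q n := by
  classical
  intro hy
  have hq := two_le_of_card_sq hF
  obtain ⟨σ, hσ, -⟩ := exists_frob hF
  obtain ⟨p, f, hp, hF'⟩ : ∃ p f : ℕ, p.Prime ∧ Fintype.card F = p ^ f := by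
    obtain ⟨f, hp, hf⟩ := FiniteField.card F (ringChar F)
    exact ⟨_, _, hp, hf⟩
  haveI := Fact.mk hp
  haveI : CharP F p := charP_of_card_eq_prime_pow hF'
  obtain ⟨k, -, hqp⟩ := (Nat.dvd_prime_pow hp).1 (show q ∣ p ^ f by rw [← hF', hF]; exact dvd_pow_self q two_ne_zero)
  let L := AlgebraicClosure F
  haveI : CharP L p := charP_of_injective_algebraMap (algebraMap F L).injective p
  obtain ⟨a, rfl⟩ := QuotientGroup.mk_surjective y
  set A : Matrix (Fin n) (Fin n) F := (a.1 : Matrix (Fin n) (Fin n) F) with hAdef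
  have hdet : A.det = 1 := a.1.2
  set P := (A.map (algebraMap F L)).charpoly with hP
  have hA1 := transpose_mul_map hF a
  have hroot0 : ∀ γ : L, P.eval γ = 0 → γ ≠ 0 := fun γ hγ h0 => by
    rw [h0, hP, eval_charpoly, map_zero, zero_sub, det_neg, ← RingHom.mapMatrix_apply, ← RingHom.map_det,
      hdet, map_one, mul_one] at hγ
    exact pow_ne_zero _ (neg_ne_zero.2 one_ne_zero) hγ
  let ψ : L → L := fun x => (x ^ q)⁻¹
  have hψroot : ∀ γ : L, P.eval γ = 0 → ∀ j : ℕ, P.eval (ψ^[j] γ) = 0 := by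
    intro γ hγ j
    induction j with
    | zero => exact hγ
    | succ j ih =>
      rw [Function.iterate_succ_apply']
      exact root_closed hqp hA1 (hroot0 _ ih) ih
  have hψpow : ∀ (γ : L) (j : ℕ), ψ^[j] γ = γ ^ ((-(q : ℤ)) ^ j) := by
    intro γ j
    induction j with
    | zero => simp
    | succ j ih =>
      rw [Function.iterate_succ_apply', ih, pow_succ]
      show ((γ ^ ((-(q : ℤ)) ^ j)) ^ q)⁻¹ = _
      rw [← zpow_natCast, ← _root_.zpow_mul, ← _root_.zpow_neg]
      ring_nf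
  have hP0 : P ≠ 0 := (charpoly_monic _).ne_zero
  have hfin : ∀ γ : L, P.eval γ = 0 → IsOfFinOrder γ := by
    intro γ hγ
    have hmem : ∀ j, ψ^[j] γ ∈ P.roots.toFinset := fun j =>
      Multiset.mem_toFinset.2 ((mem_roots hP0).2 (hψroot γ hγ j))
    obtain ⟨i, j, hij, he⟩ := Finite.exists_ne_map_eq_of_infinite
      (fun j : ℕ => (⟨ψ^[j] γ, hmem j⟩ : P.roots.toFinset))
    have he' : γ ^ ((-(q : ℤ)) ^ i) = γ ^ ((-(q : ℤ)) ^ j) := by
      rw [← hψpow, ← hψpow]; exact congrArg Subtype.val he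
    rw [isOfFinOrder_iff_zpow_eq_one]
    refine ⟨(-(q : ℤ)) ^ i - (-(q : ℤ)) ^ j, sub_ne_zero.2 fun e => hij ?_, ?_⟩
    · have := congrArg Int.natAbs e
      rw [Int.natAbs_pow, Int.natAbs_pow, Int.natAbs_neg, Int.natAbs_natCast] at this
      exact Nat.pow_right_injective hq this
    · rw [zpow_sub₀ (hroot0 γ hγ), he', div_self (zpow_ne_zero _ (hroot0 γ hγ))]
  obtain ⟨r, hr, hrN, hrM, hrmin⟩ := exists_prime hodd hq hn heven
  haveI := Fact.mk hr
  have hrp : r ≠ p := fun e => by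
    have h1 : p ∣ q ^ n := (hqp ▸ dvd_pow_self p (fun hk => by simp [hk] at hqp; omega) : p ∣ q).trans
      (dvd_pow_self q (by omega))
    have h2 := Nat.dvd_sub h1 (e ▸ hrM)
    rw [show q ^ n - (q ^ n - 1) = 1 by have := Nat.one_le_pow n q (by omega); omega] at h2
    exact hp.not_dvd_one h2
  have hpow : ∀ (i : ℕ) (t : F), A ^ i = t • 1 → ∀ γ : L, P.eval γ = 0 → γ ^ i = algebraMap F L t :=
    fun i t ht γ hγ => pow_eq_scalar ht hγ
  have hy1 : ∀ i : ℕ, (QuotientGroup.mk a : Cfsg.PSU n F q) ^ i = 1 ↔ ∃ t : F, A ^ i = t • 1 := by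
    intro i
    rw [← QuotientGroup.mk_pow, QuotientGroup.eq_one_iff, mem_center_iff hF (by omega) hσ]
    constructor
    · rintro ⟨t, ht⟩
      refine ⟨t, Matrix.toLin'.injective ?_⟩
      rw [map_smul, Matrix.toLin'_one]
      refine Eq.trans ?_ ht
      rw [suIsom_apply hσ]
      simp [A]
    · rintro ⟨t, ht⟩
      refine ⟨t, ?_⟩
      rw [suIsom_apply hσ]
      have h := congrArg Matrix.toLin' ht
      rw [map_smul, Matrix.toLin'_one] at h
      refine Eq.trans ?_ h
      simp [A]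
  -- an eigenvalue of order divisible by `r`
  obtain ⟨β, hβ, hrβ⟩ : ∃ β : L, P.eval β = 0 ∧ r ∣ orderOf β := by
    by_contra! hall
    set L₀ := ∏ γ ∈ P.roots.toFinset, orderOf γ
    have hrL : ¬ r ∣ L₀ := by
      rw [hr.prime.dvd_finsetProd_iff]
      rintro ⟨γ, hγ, hd⟩
      exact hall γ ((mem_roots hP0).1 (Multiset.mem_toFinset.1 hγ)) hd
    have hdvd : P ∣ (X ^ L₀ - 1) ^ Multiset.card P.roots := by
      conv_lhs => rw [(IsAlgClosed.splits P).eq_prod_roots_of_monic (charpoly_monic _)]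
      rw [← Multiset.prod_replicate, ← Multiset.map_const']
      refine Multiset.prod_dvd_prod_of_dvd _ _ fun γ hγ => ?_
      rw [dvd_iff_isRoot, IsRoot, eval_sub, eval_pow, eval_X, eval_one, sub_eq_zero, ← orderOf_dvd_iff_pow_eq_one]
      exact Finset.dvd_prod_of_mem _ (Multiset.mem_toFinset.2 hγ)
    set N := Multiset.card P.roots
    obtain ⟨c, hc⟩ := hdvd
    have h1 := congrArg (aeval (A.map (algebraMap F L))) hc
    rw [map_mul, hP, aeval_self_charpoly, zero_mul, map_pow, map_sub, map_pow, aeval_X, map_one] at h1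
    have h2 : A ^ (L₀ * p ^ N) = 1 := by
      apply Matrix.map_injective (algebraMap F L).injective
      show (A ^ (L₀ * p ^ N)).map (algebraMap F L) = (1 : Matrix (Fin n) (Fin n) F).map (algebraMap F L)
      rw [Matrix.map_one _ (map_zero _) (map_one _), ← RingHom.mapMatrix_apply, map_pow, pow_mul,
        RingHom.mapMatrix_apply, ← sub_eq_zero]
      haveI : Nonempty (Fin n) := ⟨⟨0, by omega⟩⟩
      have h3 := sub_pow_char_pow_of_commute p N ((Commute.one_right ((A.map (algebraMap F L)) ^ L₀)))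
      rw [one_pow, pow_eq_zero_of_le (Nat.lt_pow_self hp.one_lt).le h1] at h3
      exact h3.symm
    have h3 := orderOf_dvd_of_pow_eq_one ((hy1 _).2 ⟨1, by rw [h2, one_smul]⟩)
    rw [hy] at h3
    rcases hr.dvd_mul.1 (hrN.trans h3) with h4 | h4
    · exact hrL h4
    · exact hrp ((Nat.prime_dvd_prime_iff_eq hr hp).1 (hr.dvd_of_dvd_pow h4))
  have hβ0 := hroot0 β hβ
  have hinj : Set.InjOn (fun j : ℕ => ψ^[j] β) (Finset.range n : Set ℕ) := by
    have key : ∀ i j : ℕ, i < j → j < n → β ^ ((-(q : ℤ)) ^ i) ≠ β ^ ((-(q : ℤ)) ^ j) := by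
      intro i j hij hj he
      have h1 : β ^ ((-(q : ℤ)) ^ j - (-(q : ℤ)) ^ i) = 1 := by
        rw [zpow_sub₀ hβ0, ← he, div_self (zpow_ne_zero _ hβ0)]
      have h2 : ((r : ℕ) : ℤ) ∣ (-(q : ℤ)) ^ j - (-(q : ℤ)) ^ i :=
        (Int.natCast_dvd_natCast.2 hrβ).trans (orderOf_dvd_of_zpow hβ0 h1)
      rw [← ZMod.intCast_zmod_eq_zero_iff_dvd] at h2
      push_cast at h2
      rw [show j = i + (j - i) by omega, pow_add, ← mul_sub_one] at h2
      rcases mul_eq_zero.1 h2 with h3 | h3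
      · have h4 : (q : ZMod r) = 0 := neg_eq_zero.1 (pow_eq_zero_iff'.1 h3).1
        rw [ZMod.natCast_eq_zero_iff] at h4
        have h5 := Nat.dvd_sub (h4.trans (dvd_pow_self q (show n ≠ 0 by omega))) hrM
        rw [show q ^ n - (q ^ n - 1) = 1 by have := Nat.one_le_pow n q (by omega); omega] at h5
        exact hr.not_dvd_one h5
      · exact hrmin (j - i) (by omega) (by omega) (sub_eq_zero.1 h3)
    intro i hi j hj he
    simp only [Finset.coe_range, Set.mem_Iio] at hi hj
    simp only [hψpow] at he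
    rcases lt_trichotomy i j with h' | h' | h'
    · exact absurd he (key i j h' hj)
    · exact h'
    · exact absurd he.symm (key j i h' hi)
  have hfac : P = ∏ j ∈ Finset.range n, (X - C (ψ^[j] β)) := by
    refine Polynomial.eq_of_monic_of_dvd_of_natDegree_le (monic_prod_X_sub_C _ _) (charpoly_monic _) ?_ ?_
    · refine Finset.prod_dvd_of_coprime ?_ fun j _ => dvd_iff_isRoot.2 (hψroot β hβ j)
      intro i hi j hj hij
      exact Polynomial.isCoprime_X_sub_C_of_isUnit_sub (sub_ne_zero.2 fun e => hij (hinj hi hj e)).isUnit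
    · rw [natDegree_finsetProd_X_sub_C_eq_card, Finset.card_range, hP, charpoly_natDegree_eq_dim,
        Fintype.card_fin]
  -- the order of the eigenvalue divides `M`
  have hprod : ∀ N : ℕ, ∏ j ∈ Finset.range N, ψ^[j] β = β ^ zsum q N := by
    intro N
    induction N with
    | zero => simp [zsum]
    | succ N ih =>
      rw [Finset.prod_range_succ, ih, hψpow, ← zpow_add₀ hβ0]
      simp [zsum, Finset.sum_range_succ]
  have hoM : orderOf β ∣ torusM q n := by
    have h1 := congrArg (fun Q : L[X] => Q.eval 0) hfac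
    simp only [eval_prod, eval_sub, eval_X, eval_C, zero_sub, Finset.prod_neg, Finset.card_range,
      heven.neg_one_pow, one_mul] at h1
    rw [hP, eval_charpoly, map_zero, zero_sub, det_neg, ← RingHom.mapMatrix_apply, ← RingHom.map_det, hdet,
      map_one, Fintype.card_fin, heven.neg_one_pow, one_mul, hprod] at h1
    exact Int.natCast_dvd.1 (orderOf_dvd_of_zpow hβ0 h1.symm)
  have hkey : orderOf (β ^ (q + 1)) = orderOf (QuotientGroup.mk a : Cfsg.PSU n F q) := by
    refine orderOf_eq_orderOf_iff.2 fun i => ?_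
    rw [hy1]
    constructor
    · intro h1
      have h2 : (β ^ i) ^ (q + 1) = 1 := by rw [← pow_mul, mul_comm, pow_mul, h1]
      obtain ⟨t, ht⟩ := CfsgLib.KnownC.PSLOrders.mem_range_algebraMap_of_pow_card (F := F) (x := β ^ i) (by
        rw [hF, show q ^ 2 = (q + 1) * (q - 1) + 1 by
          obtain ⟨c, rfl⟩ := Nat.exists_eq_add_of_le hq
          simp; ring, pow_succ, pow_mul, h2, one_pow, one_mul])
      refine ⟨t, Matrix.map_injective (algebraMap F L).injective ?_⟩
      have hall : ∀ j : ℕ, (ψ^[j] β) ^ i = β ^ i := by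
        intro j
        induction j with
        | zero => rfl
        | succ j ih =>
          rw [Function.iterate_succ_apply']
          show ((ψ^[j] β ^ q)⁻¹) ^ i = β ^ i
          rw [inv_pow, pow_right_comm, ih]
          exact inv_eq_of_mul_eq_one_left (by rw [← pow_succ', h2])
      have hd : P ∣ X ^ i - C (algebraMap F L t) := by
        rw [hfac]
        refine Finset.prod_dvd_of_coprime ?_ fun j _ => ?_
        · intro a ha b hb hab
          exact Polynomial.isCoprime_X_sub_C_of_isUnit_sub (sub_ne_zero.2 fun e => hab (hinj ha hb e)).isUnit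
        · rw [dvd_iff_isRoot, IsRoot, eval_sub, eval_pow, eval_X, eval_C, hall, ht, sub_self]
      obtain ⟨c, hc⟩ := hd
      have h3 := congrArg (aeval (A.map (algebraMap F L))) hc
      rw [map_mul, hP, aeval_self_charpoly, zero_mul, map_sub, map_pow, aeval_X, aeval_C, sub_eq_zero] at h3
      show (A ^ i).map (algebraMap F L) = (t • (1 : Matrix (Fin n) (Fin n) F)).map (algebraMap F L)
      rw [← RingHom.mapMatrix_apply, map_pow, RingHom.mapMatrix_apply, h3, Matrix.algebraMap_eq_diagonal]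
      ext a b
      rcases eq_or_ne a b with rfl | hab
      · simp
      · simp [hab]
    · rintro ⟨t, ht⟩
      have h1 := hpow i t ht β hβ
      have h2 := hpow i t ht (ψ β) (hψroot β hβ 1)
      rw [← h1] at h2
      have h3 : ((β ^ i) ^ q)⁻¹ = β ^ i := by
        rw [← pow_right_comm, ← inv_pow]; exact h2
      rw [← pow_mul, mul_comm, pow_mul, pow_succ']
      nth_rw 1 [← h3]
      exact inv_mul_cancel₀ (pow_ne_zero _ (pow_ne_zero _ hβ0))
  rw [hy, orderOf_pow' β (by omega)] at hkey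
  refine no_order hodd hq hn heven h hoM ?_
  rw [← hkey]
  exact (Nat.div_mul_cancel (Nat.gcd_dvd_left _ _)).symm

theorem exists_of_lt (hF : Fintype.card F = q ^ 2) (hodd : Odd q) (hn : 4 ≤ n) (heven : Even n)
    (h : padicValNat 2 (q + 1) < padicValNat 2 n) : ∃ y : Cfsg.PSU n F q, orderOf y = halfN q n := by
  have hq := two_le_of_card_sq hF
  obtain ⟨p, f, hp, hF'⟩ : ∃ p f : ℕ, p.Prime ∧ Fintype.card F = p ^ f := by
    obtain ⟨f, hp, hf⟩ := FiniteField.card F (ringChar F)
    exact ⟨_, _, hp, hf⟩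
  haveI := Fact.mk hp
  haveI : CharP F p := charP_of_card_eq_prime_pow hF'
  obtain ⟨σ, hσ, hc⟩ := exists_frob hF
  obtain ⟨y, hy⟩ := exists_psu_torus (n := n) p hF (by omega) hσ hc
  haveI : Finite (Cfsg.PSU n F q) := inferInstanceAs (Finite (Cfsg.SU n F q ⧸ Subgroup.center (Cfsg.SU n F q)))
  obtain ⟨c, hc'⟩ := (halfN_dvd_torusT hodd hq hn heven h).trans hy
  refine ⟨y ^ c, ?_⟩
  have hc0 : c ≠ 0 := fun e => by
    rw [e, mul_zero] at hc'
    exact (orderOf_pos y).ne' hc'
  rw [orderOf_pow_of_dvd hc0 (Dvd.intro_left _ hc'.symm), hc', Nat.mul_div_cancel _ (Nat.pos_of_ne_zero hc0)]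

end Main

end CfsgLib.Classical.PSUSpectrum.Half
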