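import Cfsg.Agent.Lib.Classical.PSUSpectrum.Base

set_option autoImplicit false
set_option linter.unusedSectionVars false

/-! Regular unipotent elements and cyclic tori of `PSU_n(q)`. -/

namespace CfsgLib.Classical.PSUSpectrum

open Module Polynomial CfsgLib.Classical

universe u₀

variable {F : Type u₀} [Field F] [Fintype F] {q : ℕ} {σ : F →+* F} (p : ℕ) [Fact p.Prime] [CharP F p]

theorem det_eq_one_of_pow {V : Type*} [AddCommGroup V] [Module F V] [FiniteDimensional F V]
    (A : Module.End F V) {e : ℕ} (h : A ^ p ^ e = 1) : LinearMap.det A = 1 := by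
  have h1 : LinearMap.det A ^ p ^ e = 1 := by rw [← map_pow, h, map_one]
  have h3 : (LinearMap.det A - 1) ^ p ^ e = 0 := by rw [sub_pow_char_pow, h1, one_pow, sub_self]
  exact sub_eq_zero.1 (pow_eq_zero_iff'.1 h3).1

include p in
/-- The regular unipotent isometry. -/
theorem exists_unipotent (hc : IsConjugation σ) {m : ℕ} (hm : 1 ≤ m) :
    ∃ (R : Type u₀) (_ : AddCommGroup R) (_ : Module F R) (_ : FiniteDimensional F R)
      (B : R →ₛₗ[σ] R →ₗ[F] F) (g : isomGroup B), IsHermitian B ∧ B.SeparatingRight ∧ finrank F R = m ∧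
        orderOf g = p ^ Nat.clog p m ∧ LinearMap.det (toEndU g) = 1 := by
  classical
  have hp := (Fact.out : p.Prime)
  let f : F[X] := X ^ m
  have hf : f.Monic := monic_X_pow _
  haveI : Module.Finite F (AdjoinRoot f) := hf.finite_adjoinRoot
  haveI : Nontrivial (AdjoinRoot f) := AdjoinRoot.nontrivial f (by simp [f]; omega)
  haveI : CharP (AdjoinRoot f) p :=
    charP_of_injective_algebraMap (algebraMap F (AdjoinRoot f)).injective p
  set R := AdjoinRoot f
  let x : R := AdjoinRoot.root f
  let pb := AdjoinRoot.powerBasis hf.ne_zero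
  have hdim : pb.dim = m := by simp [pb, f]
  have hx : ∀ k, x ^ k = 0 ↔ m ≤ k := by
    intro k
    show AdjoinRoot.root f ^ k = 0 ↔ _
    rw [← AdjoinRoot.mk_X, ← map_pow, AdjoinRoot.mk_eq_zero]
    exact pow_dvd_pow_iff X_ne_zero not_isUnit_X
  have hgen : pb.gen = x := AdjoinRoot.powerBasis_gen _
  let τ : R →+* R := AdjoinRoot.lift ((algebraMap F R).comp σ) (-x) (by
    simp only [f, eval₂_X_pow]
    rw [neg_pow, (hx m).2 le_rfl, mul_zero])
  have hτx : τ x = -x := AdjoinRoot.lift_root _
  have hτc : ∀ c, τ (algebraMap F R c) = algebraMap F R (σ c) := fun c => AdjoinRoot.lift_of _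
  have hτs : ∀ (c : F) a, τ (c • a) = σ c • τ a := fun c a => by
    rw [Algebra.smul_def, map_mul, hτc, ← Algebra.smul_def]
  let top : Fin pb.dim := ⟨m - 1, by omega⟩
  let l : R →ₗ[F] F := pb.basis.coord top
  have hlx : ∀ k, l (x ^ k) = if k = m - 1 then 1 else 0 := by
    intro k
    rcases Nat.lt_or_ge k m with hk | hk
    · rw [← hgen, ← PowerBasis.basis_eq_pow pb ⟨k, by omega⟩]
      show pb.basis.repr (pb.basis ⟨k, _⟩) top = _
      rw [Module.Basis.repr_self, Finsupp.single_apply]
      simp [top, Fin.ext_iff]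
    · rw [(hx k).2 hk, map_zero, if_neg (by omega)]
  have hτb : ∀ k : Fin pb.dim, τ (pb.basis k) = (-1 : F) ^ (k : ℕ) • pb.basis k := fun k => by
    rw [PowerBasis.basis_eq_pow, hgen, map_pow, hτx, ← neg_one_smul F x, _root_.smul_pow]
  have hlτ : ∀ a, l (τ a) = (-1 : F) ^ (m - 1) * σ (l a) := by
    intro a
    rw [← pb.basis.sum_repr a]
    simp only [map_sum, hτs, hτb, map_smul, smul_eq_mul, map_mul, Finset.mul_sum]
    refine Finset.sum_congr rfl fun k _ => ?_
    rw [PowerBasis.basis_eq_pow, hgen, hlx]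
    split_ifs with h
    · rw [h, map_one]; ring
    · simp
  have hττ : ∀ a, τ (τ a) = a := by
    intro a
    rw [← pb.basis.sum_repr a]
    simp only [map_sum, hτs, hτb, smul_smul, map_mul, hc.invol, map_pow, map_neg, map_one]
    refine Finset.sum_congr rfl fun k _ => ?_
    rw [mul_assoc, ← mul_pow, neg_mul_neg, one_mul, one_pow, mul_one]
  obtain ⟨ν, hν0, hν⟩ : ∃ ν, ν ≠ 0 ∧ σ ν * (-1 : F) ^ (m - 1) = ν := by
    rcases Nat.even_or_odd (m - 1) with h | h
    · exact ⟨1, one_ne_zero, by rw [map_one, h.neg_one_pow, one_mul]⟩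
    · obtain ⟨c, hc0, hct⟩ := hc.exists_trace_zero
      exact ⟨c, hc0, by rw [h.neg_one_pow]; linear_combination -hct⟩
  let B : R →ₛₗ[σ] R →ₗ[F] F := LinearMap.mk₂'ₛₗ σ (RingHom.id F) (fun a b => ν * l (τ a * b))
    (fun a a' b => by rw [map_add, add_mul, map_add, mul_add])
    (fun c a b => by rw [hτs, smul_mul_assoc, map_smul, smul_eq_mul, smul_eq_mul]; ring)
    (fun a b b' => by rw [mul_add, map_add, mul_add])
    (fun c a b => by rw [mul_smul_comm, map_smul, smul_eq_mul, smul_eq_mul, RingHom.id_apply]; ring)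
  have hb : ∀ a b, B a b = ν * l (τ a * b) := fun a b => rfl
  have hB : IsHermitian B := ⟨hc, fun a b => by
    have hsgn : (-1 : F) ^ (m - 1) * (-1) ^ (m - 1) = 1 := by rw [← mul_pow, neg_mul_neg, one_mul, one_pow]
    have h1 := hlτ (τ b * a)
    rw [map_mul, hττ, mul_comm b] at h1
    rw [hb, hb, map_mul σ, h1, map_mul σ, map_pow, map_neg, map_one, hc.invol]
    linear_combination l (τ b * a) * hν⟩
  have hBn : B.SeparatingRight := by
    intro b hbz
    have key : ∀ k, l (x ^ k * b) = 0 := fun k => by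
      have h := hbz (τ (x ^ k))
      rw [hb, hττ] at h
      exact (mul_eq_zero.1 h).resolve_left hν0
    apply pb.basis.repr.injective
    ext j
    have h := key (m - 1 - j)
    have hj := j.2
    rw [← pb.basis.sum_repr b, Finset.mul_sum, map_sum, Finset.sum_eq_single j] at h
    · rw [map_zero, Finsupp.zero_apply]
      rw [mul_smul_comm, map_smul, PowerBasis.basis_eq_pow, hgen, ← pow_add, hlx, if_pos (by omega),
        smul_eq_mul, mul_one] at h
      exact h
    · intro k _ hk
      rw [mul_smul_comm, map_smul, PowerBasis.basis_eq_pow, hgen, ← pow_add, hlx, if_neg (by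
        have := Fin.val_ne_of_ne hk; omega), smul_zero]
    · intro h; exact absurd (Finset.mem_univ j) h
  obtain ⟨θ, hθ⟩ := hc.exists_trace_ne_zero
  have hxn : IsNilpotent x := ⟨m, (hx _).2 le_rfl⟩
  obtain ⟨u, hu⟩ := ((Commute.all (algebraMap F R θ) x).isNilpotent_mul_left hxn).isUnit_one_add
  obtain ⟨v, hv⟩ := ((Commute.all (algebraMap F R (σ θ)) x).isNilpotent_mul_left hxn).isUnit_one_sub
  set w : Rˣ := u * v⁻¹ with hw
  have hτu : τ (u : R) = v := by rw [hu, hv, map_add, map_one, map_mul, hτc, hτx, mul_neg, sub_eq_add_neg]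
  have hτv : τ (v : R) = u := by rw [← hτu, hττ]
  have hτw : τ (w : R) * w = 1 := by
    have hi : τ ((v⁻¹ : Rˣ) : R) * u = 1 := by rw [← hτv, ← map_mul, Units.inv_mul, map_one]
    rw [hw, Units.val_mul, map_mul, hτu]
    calc (v : R) * τ ((v⁻¹ : Rˣ) : R) * ((u : R) * ((v⁻¹ : Rˣ) : R))
        = (τ ((v⁻¹ : Rˣ) : R) * u) * ((v : R) * ((v⁻¹ : Rˣ) : R)) := by ring
      _ = 1 := by rw [hi, Units.mul_inv, mul_one]
  let Z : R ≃ₗ[F] R :=
    { LinearMap.mulLeft F (w : R) with
      invFun := fun a => ((w⁻¹ : Rˣ) : R) * a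
      left_inv := fun a => by simp
      right_inv := fun a => by simp }
  let g : isomGroup B := ⟨Z, fun a c => by
    show B ((w : R) * a) ((w : R) * c) = B a c
    rw [hb, hb, map_mul τ, show τ (w : R) * τ a * ((w : R) * c) = (τ (w : R) * w) * (τ a * c) by ring, hτw,
      one_mul]⟩
  have hpow : ∀ (j : ℕ) (a : R), (g ^ j).1 a = ((w ^ j : Rˣ) : R) * a := by
    intro j a
    induction j with
    | zero => simp
    | succ j ih =>
      rw [pow_succ', pow_succ']
      show (w : R) * (g ^ j).1 a = _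
      rw [ih, ← mul_assoc, ← Units.val_mul]
  have hpk : ∀ k, w ^ (p ^ k) = 1 ↔ m ≤ p ^ k := by
    intro k
    rw [hw, mul_pow, inv_pow, mul_inv_eq_one, Units.ext_iff, Units.val_pow_eq_pow_val, Units.val_pow_eq_pow_val,
      hu, hv, add_pow_char_pow, sub_pow_char_pow, one_pow, mul_pow, mul_pow, ← hx]
    constructor
    · intro h
      have h3 : algebraMap F R (θ + σ θ) ^ p ^ k * x ^ p ^ k = 0 := by
        rw [map_add, add_pow_char_pow]; linear_combination h
      rw [← map_pow, ← Algebra.smul_def] at h3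
      exact (smul_eq_zero.1 h3).resolve_left (pow_ne_zero _ hθ)
    · intro h; rw [h, mul_zero, mul_zero, add_zero, sub_zero]
  have hgw : ∀ j : ℕ, g ^ j = 1 ↔ w ^ j = 1 := fun j => by
    constructor
    · intro h
      have h1 := hpow j 1
      rw [h, mul_one] at h1
      exact Units.ext h1.symm
    · intro h
      refine Subtype.ext (LinearEquiv.ext fun a => ?_)
      rw [hpow, h, Units.val_one, one_mul]; rfl
  have hord : orderOf g = p ^ Nat.clog p m := by
    rcases eq_or_ne (Nat.clog p m) 0 with h0 | h0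
    · rw [h0, pow_zero, orderOf_eq_one_iff, ← pow_one g, hgw, ← pow_zero p, hpk]
      have := Nat.le_pow_clog hp.one_lt m
      rwa [h0] at this
    obtain ⟨e, he⟩ : ∃ e, Nat.clog p m = e + 1 := ⟨Nat.clog p m - 1, by omega⟩
    rw [he]
    apply orderOf_eq_prime_pow
    · rw [hgw, hpk]
      have hm2 : 1 < m := by
        by_contra h
        exact h0 (Nat.clog_of_right_le_one (by omega) _)
      have := Nat.pow_pred_clog_lt_self hp.one_lt hm2
      rw [he] at this
      simpa using this
    · rw [hgw, hpk, ← he]; exact Nat.le_pow_clog hp.one_lt _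
  refine ⟨R, inferInstance, inferInstance, inferInstance, B, g, hB, hBn, by rw [PowerBasis.finrank pb, hdim],
    hord, det_eq_one_of_pow p _ (e := Nat.clog p m) ?_⟩
  rw [← map_pow, ← hord, pow_orderOf_eq_one, map_one]

variable {n : ℕ}

include p in
theorem exists_psu_unipotent (hF : Fintype.card F = q ^ 2) (hn : 2 ≤ n) (hσ : ∀ x, σ x = x ^ q)
    (hc : IsConjugation σ) : ∃ y : Cfsg.PSU n F q, p ^ Nat.clog p n ∣ orderOf y := by
  obtain ⟨R, _, _, _, B, g, hB, hN, hd, hord, hdet⟩ := exists_unipotent p hc (show 1 ≤ n by omega)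
  obtain ⟨y, hy⟩ := psu_of_isom hF hn hσ hc hB hN hd g hdet
  refine ⟨y, ?_⟩
  obtain ⟨t, ht, -, -⟩ := hy _ dvd_rfl
  haveI : Nontrivial R := Module.nontrivial_of_finrank_pos (R := F) (by omega)
  have h1 : (t ^ p ^ Nat.clog p n) • (1 : Module.End F R) = (1 : F) • 1 := by
    rw [one_smul, ← one_pow (M := Module.End F R) (p ^ Nat.clog p n), ← _root_.smul_pow, ← ht, ← map_pow,
      ← map_pow, ← hord, ← pow_mul, mul_comm, pow_mul, pow_orderOf_eq_one, one_pow, map_one, one_pow]
  have ht1 : t ^ p ^ Nat.clog p n = 1 := smul_left_injective F one_ne_zero h1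
  have h3 : (t - 1) ^ p ^ Nat.clog p n = 0 := by rw [sub_pow_char_pow, ht1, one_pow, sub_self]
  rw [sub_eq_zero.1 (pow_eq_zero_iff'.1 h3).1, one_smul, ← map_pow] at ht
  rw [← hord]
  exact orderOf_dvd_of_pow_eq_one (toEndU_injective (ht.trans (map_one _).symm))

include p in
/-- A regular unipotent element on a hyperplane times an element of order `r`. -/
theorem exists_psu_unipotent_mul (hF : Fintype.card F = q ^ 2) (hn : 3 ≤ n) (hσ : ∀ x, σ x = x ^ q)
    (hc : IsConjugation σ) {r : ℕ} (hr : r.Prime) (hrn : ¬ r ∣ n) (hrq : r ∣ q + 1) {ε : F}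
    (hε : orderOf ε = r) (hrp : r ≠ p) :
    ∃ y : Cfsg.PSU n F q, p ^ Nat.clog p (n - 1) * r ∣ orderOf y := by
  have hp := (Fact.out : p.Prime)
  obtain ⟨R, _, _, _, B₁, g₁, hB₁, hN₁, hd, hord, hdet⟩ := exists_unipotent p hc (show 1 ≤ n - 1 by omega)
  haveI : Nontrivial R := Module.nontrivial_of_finrank_pos (R := F) (by omega)
  have hεr : ε ^ r = 1 := by rw [← hε, pow_orderOf_eq_one]
  have hεσ : σ ε * ε = 1 := by
    obtain ⟨c, hc'⟩ := hrq
    rw [hσ, ← pow_succ, hc', pow_mul, hεr, one_pow]
  set a := (r - 1) * (n - 1) with ha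
  let B : (R × F) →ₛₗ[σ] (R × F) →ₗ[F] F := LinearMap.mk₂'ₛₗ σ (RingHom.id F)
    (fun u v => B₁ u.1 v.1 + σ u.2 * v.2)
    (fun u u' v => by simp only [Prod.fst_add, Prod.snd_add, map_add, LinearMap.add_apply]; ring)
    (fun c u v => by
      simp only [Prod.smul_fst, Prod.smul_snd, map_smulₛₗ, LinearMap.smul_apply, smul_eq_mul, map_mul]; ring)
    (fun u v v' => by simp only [Prod.fst_add, Prod.snd_add, map_add]; ring)
    (fun c u v => by simp only [Prod.smul_fst, Prod.smul_snd, map_smul, smul_eq_mul, RingHom.id_apply]; ring)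
  have hb : ∀ u v, B u v = B₁ u.1 v.1 + σ u.2 * v.2 := fun u v => rfl
  have hB : IsHermitian B := ⟨hc, fun u v => by rw [hb, hb, map_add, hB₁.symm, map_mul, hc.invol]; ring⟩
  have hN : B.SeparatingRight := fun v hv => Prod.ext
    (hN₁ _ fun w => by simpa [hb] using hv (w, 0)) (by simpa [hb] using hv (0, 1))
  have hε0 : ε ≠ 0 := fun h => by rw [h, zero_pow hr.ne_zero] at hεr; exact zero_ne_one hεr
  have hεσ' : ∀ i : ℕ, σ (ε ^ i) * ε ^ i = 1 := fun i => by rw [map_pow, ← mul_pow, hεσ, one_pow]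
  let G : isomGroup B := ⟨(g₁.1.trans (LinearEquiv.smulOfUnit (Units.mk0 ε hε0))).prodCongr
      (LinearEquiv.smulOfUnit (Units.mk0 (ε ^ a) (pow_ne_zero _ hε0))), fun u v => by
    show B (ε • g₁.1 u.1, ε ^ a • u.2) (ε • g₁.1 v.1, ε ^ a • v.2) = B u v
    simp only [hb, map_smulₛₗ, LinearMap.smul_apply, smul_eq_mul, g₁.2, map_mul, RingHom.id_apply]
    linear_combination (B₁ u.1 v.1) * hεσ + (σ u.2 * v.2) * hεσ' a + (σ ε * ε) * g₁.2 u.1 v.1⟩
  have hGdet : LinearMap.det (toEndU G) = 1 := by
    have : toEndU G = (ε • toEndU g₁).prodMap (ε ^ a • LinearMap.id) := LinearMap.ext fun u => rfl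
    rw [this, LinearMap.det_prodMap, LinearMap.det_smul, LinearMap.det_smul, hdet, LinearMap.det_id, hd,
      Module.finrank_self, mul_one, mul_one, pow_one, ← pow_add, ha]
    obtain ⟨r', rfl⟩ : ∃ r', r = r' + 1 := ⟨r - 1, by have := hr.pos; omega⟩
    rw [Nat.add_sub_cancel, show n - 1 + r' * (n - 1) = (r' + 1) * (n - 1) by ring, pow_mul, hεr, one_pow]
  obtain ⟨y, hy⟩ := psu_of_isom (n := n) hF (by omega) hσ hc hB hN
    (by rw [Module.finrank_prod, hd, Module.finrank_self]; omega) G hGdet
  refine ⟨y, ?_⟩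
  set i := orderOf y
  obtain ⟨t, ht, -, -⟩ := hy i dvd_rfl
  rw [← map_pow] at ht
  have hGi : ∀ (i : ℕ) u, (G ^ i).1 u = (ε ^ i • (g₁ ^ i).1 u.1, (ε ^ a) ^ i • u.2) := by
    intro i
    induction i with
    | zero => intro u; simp
    | succ i ih =>
      intro u
      rw [pow_succ, pow_succ, pow_succ, pow_succ]
      show (G ^ i).1 (ε • g₁.1 u.1, ε ^ a • u.2) = _
      rw [ih, map_smul, smul_smul, smul_smul]
      rfl
  have hti : (ε ^ a) ^ i = t := by
    have h := congrArg Prod.snd ((hGi i (0, 1)).symm.trans ((scalar_iff _ t).1 ht (0, 1)))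
    simpa using h
  have hg1 : toEndU (g₁ ^ i) = (t / ε ^ i) • 1 := by
    refine LinearMap.ext fun z => ?_
    have h := congrArg Prod.fst ((hGi i (z, 0)).symm.trans ((scalar_iff _ t).1 ht (z, 0)))
    rw [LinearMap.smul_apply, Module.End.one_apply, div_eq_inv_mul, mul_smul, ← show ε ^ i • (g₁ ^ i).1 z = t • z from h,
      smul_smul, inv_mul_cancel₀ (pow_ne_zero _ hε0), one_smul]
    rfl
  have ht1 : t / ε ^ i = 1 := by
    set P := p ^ Nat.clog p (n - 1)
    have h1 : ((t / ε ^ i) ^ P) • (1 : Module.End F R) = (1 : F) • 1 := by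
      rw [one_smul, ← one_pow (M := Module.End F R) P, ← _root_.smul_pow, ← hg1, ← map_pow, ← pow_mul, mul_comm,
        pow_mul, ← hord, pow_orderOf_eq_one, one_pow, map_one, one_pow]
    have h2 : (t / ε ^ i) ^ P = 1 := smul_left_injective F one_ne_zero h1
    have h3 : (t / ε ^ i - 1) ^ P = 0 := by rw [sub_pow_char_pow, h2, one_pow, sub_self]
    exact sub_eq_zero.1 (pow_eq_zero_iff'.1 h3).1
  have hPi : p ^ Nat.clog p (n - 1) ∣ i := by
    rw [← hord]
    refine orderOf_dvd_of_pow_eq_one (toEndU_injective ?_)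
    rw [hg1, ht1, one_smul, map_one]
  have hri : r ∣ i := by
    rw [div_eq_one_iff_eq (pow_ne_zero _ hε0), ← hti, ← pow_mul] at ht1
    have h : r ∣ (r - 1) * n * i := by
      rw [← hε]
      refine orderOf_dvd_of_pow_eq_one ?_
      obtain ⟨n', rfl⟩ : ∃ n', n = n' + 1 := ⟨n - 1, by omega⟩
      rw [ha, Nat.add_sub_cancel] at ht1
      rw [hε, mul_add, mul_one, add_mul, pow_add, ht1, ← pow_add,
        show i + (r - 1) * i = r * i by conv_rhs => rw [← Nat.sub_add_cancel hr.one_le, add_mul, one_mul, add_comm],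
        pow_mul, hεr, one_pow]
    rcases hr.dvd_mul.1 h with h | h
    · rcases hr.dvd_mul.1 h with h | h
      · have := Nat.le_of_dvd (by have := hr.two_le; omega) h
        have := hr.two_le
        omega
      · exact absurd h hrn
    · exact h
  exact Nat.Coprime.mul_dvd_of_dvd_of_dvd (Nat.Coprime.pow_left _ ((Nat.coprime_primes hp hr).2 hrp.symm)) hPi hri

theorem pow_eq_of_cast {G : Type*} [Monoid G] (α : G) {a b : ℕ}
    (h : (a : ZMod (orderOf α)) = b) : α ^ a = α ^ b := by
  rw [← pow_mod_orderOf α a, (ZMod.natCast_eq_natCast_iff' _ _ _).1 h, pow_mod_orderOf]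

theorem trace_comm {K : Type*} [Field K] [Algebra F K] [FiniteDimensional F K] (τ : K →+* K)
    (hτ : ∀ c, τ (algebraMap F K c) = algebraMap F K (σ c)) (z : K) :
    Algebra.trace F K (τ z) = σ (Algebra.trace F K z) := by
  haveI : Finite K := Module.finite_of_finite F
  apply (algebraMap F K).injective
  rw [← hτ, FiniteField.algebraMap_trace_eq_sum_pow, FiniteField.algebraMap_trace_eq_sum_pow, map_sum]
  simp only [map_pow]

include p in
theorem exists_order (m M : ℕ) [NeZero m] (hM : ((Fintype.card F : ZMod M)) ^ m = 1) :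
    ∃ α : FiniteField.Extension F p m, orderOf α = M := by
  obtain ⟨γ, hγ⟩ := IsCyclic.exists_ofOrder_eq_natCard (α := (FiniteField.Extension F p m)ˣ)
  rw [Nat.card_units, FiniteField.natCard_extension F p m, Nat.card_eq_fintype_card] at hγ
  obtain ⟨c, hc⟩ : M ∣ Fintype.card F ^ m - 1 := by
    rw [← ZMod.natCast_eq_zero_iff, Nat.cast_sub (Nat.one_le_pow _ _ Fintype.card_pos)]
    push_cast
    rw [hM, sub_self]
  have hc0 : c ≠ 0 := fun h => by
    rw [h, mul_zero] at hc
    have := Nat.one_lt_pow (NeZero.ne m) (Fintype.one_lt_card (α := F))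
    omega
  refine ⟨((γ ^ c : (FiniteField.Extension F p m)ˣ) : FiniteField.Extension F p m), ?_⟩
  rw [orderOf_units, orderOf_pow_of_dvd hc0 ⟨M, by rw [hγ, hc, mul_comm]⟩, hγ, hc, Nat.mul_div_cancel _ (by omega)]

theorem torus_finish (hF : Fintype.card F = q ^ 2) (hn : 2 ≤ n) (hσ : ∀ x, σ x = x ^ q) (hc : IsConjugation σ)
    {V : Type*} [AddCommGroup V] [Module F V] [FiniteDimensional F V] (B : V →ₛₗ[σ] V →ₗ[F] F)
    (hB : IsHermitian B) (hN : B.SeparatingRight) (hd : finrank F V = n) (g : isomGroup B)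
    (hdet : LinearMap.det (toEndU g) = 1)
    (key : ∀ (i : ℕ) (t : F), toEndU g ^ i = t • 1 → ∀ e : ℕ, t ^ e = 1 → torusM q n ∣ i * e) :
    ∃ y : Cfsg.PSU n F q, torusT q n ∣ orderOf y := by
  obtain ⟨y, hy⟩ := psu_of_isom hF hn hσ hc hB hN hd g hdet
  obtain ⟨t, ht, ht1, ht2⟩ := hy _ dvd_rfl
  refine ⟨y, ?_⟩
  have h1 := Nat.dvd_gcd (key _ t ht _ ht2) (key _ t ht _ ht1)
  rw [Nat.gcd_mul_left, ← torusT_mul] at h1
  exact Nat.dvd_of_mul_dvd_mul_right (Nat.gcd_pos_of_pos_left _ (by omega)) h1

include p in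
/-- The cyclic torus. -/
theorem exists_psu_torus (hF : Fintype.card F = q ^ 2) (hn : 2 ≤ n) (hσ : ∀ x, σ x = x ^ q)
    (hc : IsConjugation σ) : ∃ y : Cfsg.PSU n F q, torusT q n ∣ orderOf y := by
  classical
  obtain ⟨k, hpp, hk⟩ := FiniteField.card F p
  obtain ⟨k', -, hk'⟩ := (Nat.dvd_prime_pow hpp).1
    (show q ∣ p ^ (k : ℕ) by rw [← hk, hF]; exact dvd_pow_self q two_ne_zero)
  have hq2 := two_le_of_card_sq hF
  set M := torusM q n with hM
  set u : ZMod M := -(q : ZMod M) with hu
  have hu2 : u ^ 2 = (Fintype.card F : ZMod M) := by rw [hF]; push_cast [hu]; ring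
  have hsum : ∑ i ∈ Finset.range n, u ^ i = 0 := (zsum_cast_eq_zero_iff q n M).2 dvd_rfl
  have hun : u ^ n = 1 := by
    have := geom_sum_mul u n
    rw [hsum, zero_mul] at this
    linear_combination -this
  have hMT : torusT q n * Nat.gcd n (q + 1) = M := torusT_mul q n
  rcases Nat.even_or_odd n with ⟨m, hm⟩ | hodd
  · -- a pair of dual totally isotropic spaces
    haveI : NeZero m := ⟨by omega⟩
    set K := FiniteField.Extension F p m
    haveI : Fintype K := Fintype.ofFinite K
    have hK : finrank F K = m := FiniteField.finrank_extension F p m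
    haveI : FiniteDimensional F K := Module.finite_of_finrank_pos (by omega)
    haveI : CharP K p := charP_of_injective_algebraMap (algebraMap F K).injective p
    haveI : ExpChar K p := ExpChar.prime hpp
    obtain ⟨α, hα⟩ := exists_order (F := F) p m M (by rw [← hu2, ← pow_mul, two_mul, ← hm, hun])
    let φ : K →+* K := iterateFrobenius K p k'
    have hφ : ∀ x, φ x = x ^ q := fun x => by rw [hk']; exact iterateFrobenius_def p k' x
    have hφc : ∀ c, φ (algebraMap F K c) = algebraMap F K (σ c) := fun c => by rw [hφ, hσ, map_pow]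
    have hφs : ∀ (c : F) (x : K), φ (c • x) = σ c • φ x := fun c x => by
      rw [Algebra.smul_def, map_mul, hφc, ← Algebra.smul_def]
    let B : (K × K) →ₛₗ[σ] (K × K) →ₗ[F] F := LinearMap.mk₂'ₛₗ σ (RingHom.id F)
      (fun x y => Algebra.trace F K (φ x.1 * y.2) + σ (Algebra.trace F K (φ y.1 * x.2)))
      (fun x x' y => by simp only [Prod.fst_add, Prod.snd_add, map_add, add_mul, mul_add]; ring)
      (fun c x y => by
        simp only [Prod.smul_fst, Prod.smul_snd, hφs, smul_mul_assoc, mul_smul_comm, map_smul, smul_eq_mul, map_mul]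
        ring)
      (fun x y y' => by simp only [Prod.fst_add, Prod.snd_add, map_add, add_mul, mul_add]; ring)
      (fun c x y => by
        simp only [Prod.smul_fst, Prod.smul_snd, hφs, smul_mul_assoc, mul_smul_comm, map_smul, smul_eq_mul, map_mul,
          hc.invol, RingHom.id_apply]
        ring)
    have hb : ∀ x y, B x y = Algebra.trace F K (φ x.1 * y.2) + σ (Algebra.trace F K (φ y.1 * x.2)) :=
      fun x y => rfl
    have hB : IsHermitian B := ⟨hc, fun x y => by rw [hb, hb, map_add, hc.invol]; ring⟩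
    have hN : B.SeparatingRight := fun y hy => by
      refine Prod.ext ?_ ?_
      · refine (map_eq_zero φ).1 ((traceForm_nondegenerate F K).1 _ fun z => ?_)
        have h := hy (0, z)
        rw [hb] at h
        simp only [map_zero, zero_mul, zero_add] at h
        rw [Algebra.traceForm_apply]
        exact (map_eq_zero σ).1 h
      · refine (traceForm_nondegenerate F K).1 _ fun z => ?_
        obtain ⟨z, rfl⟩ := (Finite.injective_iff_surjective.1 φ.injective) z
        have h := hy (z, 0)
        rw [hb] at h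
        simp only [mul_zero, map_zero, add_zero] at h
        rwa [Algebra.traceForm_apply, mul_comm]
    have hM0 : 0 < M := by
      rw [Nat.pos_iff_ne_zero]
      intro h0
      have h1 := FiniteField.pow_card_sub_one_eq_one α (fun e => by
        rw [e] at hα
        have := hun
        simp only [h0] at hα
        rw [orderOf_eq_zero_iff] at hα
        have h2 : (0 : ℤ) = zsum q n := by
          rw [hM, torusM, Int.natAbs_eq_zero] at h0; exact h0.symm
        have h3 := geom_sum_mul (-(q : ℤ)) n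
        rw [show ∑ i ∈ Finset.range n, (-(q : ℤ)) ^ i = zsum q n from rfl, ← h2, zero_mul] at h3
        have h4 : ((-(q : ℤ)) ^ n).natAbs = 1 := by rw [show (-(q : ℤ)) ^ n = 1 by linear_combination -h3]; rfl
        rw [Int.natAbs_pow, Int.natAbs_neg, Int.natAbs_natCast] at h4
        exact absurd h4 (Nat.one_lt_pow (by omega) (by omega)).ne')
      have h3 : orderOf α ≠ 0 := (orderOf_pos_iff.2 (isOfFinOrder_iff_pow_eq_one.2
        ⟨_, Nat.sub_pos_of_lt Fintype.one_lt_card, h1⟩)).ne'
      exact h3 (hα.trans h0)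
    have hα0 : α ≠ 0 := fun e => by
      have h1 : α ^ M = 1 := hα ▸ pow_orderOf_eq_one α
      rw [e, zero_pow hM0.ne'] at h1
      exact zero_ne_one h1
    have hβ : φ α * (φ α)⁻¹ = 1 := mul_inv_cancel₀ ((map_ne_zero φ).2 hα0)
    let Z : (K × K) ≃ₗ[F] (K × K) := LinearEquiv.prodCongr
      (LinearEquiv.ofInjectiveEndo (LinearMap.mulLeft F α) (mul_right_injective₀ hα0))
      (LinearEquiv.ofInjectiveEndo (LinearMap.mulLeft F (φ α)⁻¹)
        (mul_right_injective₀ (inv_ne_zero ((map_ne_zero φ).2 hα0))))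
    let g : isomGroup B := ⟨Z, fun x y => by
      show B (α * x.1, (φ α)⁻¹ * x.2) (α * y.1, (φ α)⁻¹ * y.2) = B x y
      rw [hb, hb]
      have key : ∀ a b : K, φ (α * a) * ((φ α)⁻¹ * b) = φ a * b := fun a b => by
        calc φ (α * a) * ((φ α)⁻¹ * b) = (φ α * (φ α)⁻¹) * (φ a * b) := by rw [map_mul]; ring
          _ = _ := by rw [hβ, one_mul]
      show Algebra.trace F K (φ (α * x.1) * ((φ α)⁻¹ * y.2)) + σ (Algebra.trace F K (φ (α * y.1) * ((φ α)⁻¹ * x.2))) = _
      rw [key, key]⟩
    refine torus_finish hF hn hσ hc (V := K × K) B hB hN (by rw [Module.finrank_prod, hK]; omega) g ?_ ?_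
    · rw [show toEndU g = (Algebra.lmul F K α).prodMap (Algebra.lmul F K (φ α)⁻¹) from LinearMap.ext fun x => rfl,
        LinearMap.det_prodMap, ← Algebra.norm_apply, ← Algebra.norm_apply]
      have h1 : Algebra.norm F α = Algebra.norm F (φ α) := by
        apply (algebraMap F K).injective
        rw [FiniteField.algebraMap_norm_eq_pow_sum, FiniteField.algebraMap_norm_eq_pow_sum, hK, hφ, ← pow_mul,
          Nat.card_eq_fintype_card]
        refine pow_eq_of_cast α ?_
        rw [hα]
        have h0 : (1 + u) * ∑ i ∈ Finset.range m, (u ^ 2) ^ i = 0 := by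
          rw [← sum_two_mul_period, two_mul, ← hm, hsum]
        push_cast
        rw [← hu2]
        rw [show (q : ZMod M) = -u by rw [hu, neg_neg]]
        linear_combination h0
      rw [h1, ← map_mul, hβ, map_one]
    · intro i t ht e he
      rw [← hM, ← hα]
      refine orderOf_dvd_of_pow_eq_one ?_
      have h1 : α ^ i = algebraMap F K t := by
        have hpow : ∀ (j : ℕ), (toEndU g ^ j) (1, 0) = (α ^ j, 0) := by
          intro j
          induction j with
          | zero => simp
          | succ j ih =>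
            rw [pow_succ', Module.End.mul_apply, ih]
            show (α * α ^ j, (φ α)⁻¹ * 0) = _
            rw [mul_zero, pow_succ']
        have h := congrArg Prod.fst ((hpow i).symm.trans (LinearMap.congr_fun ht (1, 0)))
        simpa [Algebra.algebraMap_eq_smul_one] using h
      rw [pow_mul, h1, ← map_pow, he, map_one]
  · -- a field with a conjugation
    obtain ⟨m, hm⟩ := hodd
    haveI : NeZero n := ⟨by omega⟩
    set K := FiniteField.Extension F p n
    haveI : Fintype K := Fintype.ofFinite K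
    have hK : finrank F K = n := FiniteField.finrank_extension F p n
    haveI : FiniteDimensional F K := Module.finite_of_finrank_pos (by omega)
    haveI : CharP K p := charP_of_injective_algebraMap (algebraMap F K).injective p
    haveI : ExpChar K p := ExpChar.prime hpp
    obtain ⟨α, hα⟩ := exists_order (F := F) p n M (by rw [← hu2, ← pow_mul, mul_comm, pow_mul, hun, one_pow])
    let τ : K →+* K := iterateFrobenius K p (k' * n)
    have hτ : ∀ x, τ x = x ^ q ^ n := fun x => by rw [hk', ← pow_mul]; exact iterateFrobenius_def p _ x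
    have hτc : ∀ c, τ (algebraMap F K c) = algebraMap F K (σ c) := fun c => by
      rw [hτ, hσ, ← map_pow]
      congr 1
      rw [hm, pow_succ, pow_mul q 2 m, ← hF, pow_mul, FiniteField.pow_card_pow]
    have hττ : ∀ x, τ (τ x) = x := fun x => by
      have hcK : Fintype.card K = Fintype.card F ^ n := by rw [Module.card_eq_pow_finrank (K := F), hK]
      rw [hτ, hτ, ← pow_mul, ← pow_add, ← two_mul, pow_mul, ← hF, ← hcK, FiniteField.pow_card]
    have hατ : τ α * α = 1 := by
      rw [hτ, ← pow_succ, pow_eq_one_iff_cast, hα]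
      push_cast
      rw [show (q : ZMod M) = -u by rw [hu, neg_neg], Odd.neg_pow ⟨m, hm⟩, hun, neg_add_cancel]
    have hα0 : α ≠ 0 := fun e => by rw [e, mul_zero] at hατ; exact zero_ne_one hατ
    let B : K →ₛₗ[σ] K →ₗ[F] F := LinearMap.mk₂'ₛₗ σ (RingHom.id F) (fun x y => Algebra.trace F K (τ x * y))
      (fun x x' y => by rw [map_add, add_mul, map_add])
      (fun c x y => by rw [Algebra.smul_def c x, map_mul τ, hτc, mul_assoc, ← Algebra.smul_def, map_smul])
      (fun x y y' => by rw [mul_add, map_add])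
      (fun c x y => by rw [mul_smul_comm, map_smul, RingHom.id_apply])
    have hb : ∀ x y, B x y = Algebra.trace F K (τ x * y) := fun x y => rfl
    have hB : IsHermitian B := ⟨hc, fun x y => by
      rw [hb, hb, ← trace_comm τ hτc, map_mul, hττ, mul_comm]⟩
    have hN : B.SeparatingRight := fun y hy => (traceForm_nondegenerate F K).1 _ fun z => by
      have h := hy (τ z)
      rwa [hb, hττ, mul_comm, ← Algebra.traceForm_apply] at h
    let g : isomGroup B := ⟨LinearEquiv.ofInjectiveEndo (LinearMap.mulLeft F α) (mul_right_injective₀ hα0),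
      fun x y => by
        show B (α * x) (α * y) = B x y
        rw [hb, hb, map_mul τ, show τ α * τ x * (α * y) = (τ α * α) * (τ x * y) by ring, hατ, one_mul]⟩
    have hg : toEndU g = Algebra.lmul F K α := LinearMap.ext fun x => rfl
    refine torus_finish hF hn hσ hc (V := K) B hB hN hK g ?_ ?_
    · rw [hg, ← Algebra.norm_apply]
      apply (algebraMap F K).injective
      rw [FiniteField.algebraMap_norm_eq_pow_sum, map_one, hK, Nat.card_eq_fintype_card, pow_eq_one_iff_cast, hα]
      push_cast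
      rw [← hu2, hm]
      rw [hm] at hun hsum
      rw [sum_sq_period hun, hsum]
    · intro i t ht e he
      rw [← hM, ← hα]
      refine orderOf_dvd_of_pow_eq_one ?_
      rw [hg, ← map_pow] at ht
      have h1 : α ^ i = algebraMap F K t := by
        have h := LinearMap.congr_fun ht 1
        simpa [Algebra.algebraMap_eq_smul_one] using h
      rw [pow_mul, h1, ← map_pow, he, map_one]

end CfsgLib.Classical.PSUSpectrum
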